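import Cfsg.Agent.H6.DCE

/-! The closure check of a double coset enumeration and the bound for the index. -/

set_option autoImplicit false

namespace Cfsg.H6

noncomputable def orbRun2 (img : ℕ → ℕ → ℕ) (Ws : List (List ℕ)) (F : ℕ) (us : List ℕ) : ℕ → Bool :=
  @List.rec _ (fun _ => ℕ → Bool) (fun M => Nat.beq M F) (fun u _ ih M => orbU img Ws ih M u) us

theorem orbRun2_sound {img : ℕ → ℕ → ℕ} {Ws : List (List ℕ)} {F : ℕ} {Q : ℕ → Prop}
    (hQ : ∀ w ∈ Ws, ∀ p, Q p → Q (trF img w p)) (us : List ℕ) :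
    ∀ M : ℕ, (∀ p, M.testBit p = true → Q p) → orbRun2 img Ws F us M = true →
      ∀ p, F.testBit p = true → Q p := by
  induction us with
  | nil => intro M h1 h2; rwa [← Nat.eq_of_beq_eq_true h2]
  | cons u us ih =>
    intro M h1 h3
    have h4 : orbU img Ws (orbRun2 img Ws F us) M u = true := h3
    unfold orbU at h4
    rw [frcB_eq] at h4
    generalize Nat.shiftRight u 8 = p at h4
    have hw : Q p → Q (trF img (nthW Ws (Nat.land u 255)) p) := by
      rcases nthW_mem Ws (Nat.land u 255) with e | e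
      · rw [e]; exact id
      · exact hQ _ e p
    generalize trF img (nthW Ws (Nat.land u 255)) p = c at h4 hw
    unfold orbS at h4
    cases hb : Nat.blt (Nat.land (Nat.shiftRight M c) 1) (Nat.land (Nat.shiftRight M p) 1) with
    | false => rw [hb] at h4; exact absurd h4 (by simp)
    | true =>
      rw [hb] at h4
      rw [Nat.blt_eq, land_one_testBit, land_one_testBit] at hb
      have hp : M.testBit p = true := by
        by_contra hc
        rw [if_neg hc] at hb
        omega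
      refine ih _ (fun q hq => ?_) h4
      have hq' : (M ||| 1 <<< c).testBit q = true := hq
      rw [Nat.testBit_or, Nat.one_shiftLeft, Nat.testBit_two_pow, Bool.or_eq_true,
        decide_eq_true_eq] at hq'
      rcases hq' with h5 | h5
      · exact h1 q h5
      · exact h5 ▸ hw (h1 p hp)

/-- The mask of a list of points. -/
def maskL (l : List ℕ) : ℕ := l.foldr (fun p M => Nat.lor M (Nat.shiftLeft 1 p)) 0

theorem maskL_spec (l : List ℕ) (q : ℕ) (h : (maskL l).testBit q = true) : q ∈ l := by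
  induction l with
  | nil => simp [maskL] at h
  | cons p l ih =>
    have h' : (maskL l ||| 1 <<< p).testBit q = true := h
    rw [Nat.testBit_or, Nat.one_shiftLeft, Nat.testBit_two_pow, Bool.or_eq_true,
      decide_eq_true_eq] at h'
    rcases h' with h5 | h5
    · exact List.mem_cons_of_mem _ (ih h5)
    · exact h5 ▸ List.mem_cons_self

variable {G : Type*} [Group G] {ev : ℕ → G} {H : Subgroup G}

/-- The stabiliser of a right coset. -/
def rcStab (H : Subgroup G) (g : G) : Subgroup G where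
  carrier := {x | RC H g (g * x)}
  one_mem' := by simpa using RC.refl H g
  mul_mem' := fun {x y} hx hy => by
    have h1 : RC H g (g * y) := hy
    have h2 : RC H g (g * x) := hx
    simpa [mul_assoc] using h1.trans (h2.mul y)
  inv_mem' := fun {x} hx => by
    have h2 : RC H g (g * x) := hx
    simpa using (h2.mul x⁻¹).symm

theorem cover_of_index {S : Subgroup G} {n : ℕ} (h0 : S.index ≠ 0) (h : S.index ≤ n) :
    Cover S ⊤ n := by
  have : Finite (G ⧸ S) := Nat.finite_of_card_ne_zero h0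
  let e := Finite.equivFin (G ⧸ S)
  refine ⟨fun j => if hj : j < Nat.card (G ⧸ S) then ((e.symm ⟨j, hj⟩).out)⁻¹ else 1, fun y _ => ?_⟩
  refine ⟨e (y⁻¹ : G), lt_of_lt_of_le (e _).2 h, ?_⟩
  simp only [dif_pos (e _).2, Fin.eta, Equiv.symm_apply_apply, inv_inv]
  have := QuotientGroup.eq.mp (QuotientGroup.out_eq' ((y⁻¹ : G) : G ⧸ S)).symm
  simpa using this

theorem cover_of_cards [Finite G] {S : Subgroup G} {n a : ℕ} (ha : a ≤ Nat.card S)
    (hG : Nat.card G ≤ n * a) : Cover S ⊤ n := by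
  refine cover_of_index Subgroup.index_ne_zero_of_finite ?_
  have h1 := Subgroup.card_mul_index S
  have h2 : 0 < Nat.card S := Nat.card_pos
  by_contra hc
  have : n + 1 ≤ S.index := by omega
  nlinarith

namespace Dce

variable (D : Dce)

/-- The words of the stabiliser claims and their inverses. -/
def genW (Gs : List ℕ) : List (List ℕ) :=
  Gs.map (fun c => (D.cl c).b) ++ Gs.map fun c => invW D.inv (D.cl c).b

def genChk (N i : ℕ) (Gs : List ℕ) : Bool :=
  (Gs.all fun c => Nat.blt c N && !(D.cl c).e && Nat.beq (D.cl c).i i && Nat.beq (D.cl c).j i) &&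
    (D.genW Gs).all (inR D.m)

noncomputable def finChk (img : ℕ → ℕ → ℕ) (n N : ℕ) (I : List ℕ) (i : ℕ) (Gs Fs us : List ℕ) :
    Bool :=
  D.genChk N i Gs &&
    (Fs.all fun c => Nat.blt c N && (D.cl c).e && Nat.beq (D.cl c).i i && I.elem (D.cl c).j &&
      inR D.m (invW D.inv (D.cl c).a) && inR D.m (D.cl c).b) &&
    orbRun2 img (D.genW Gs) (2 ^ n - 1) us
      (maskL (Fs.map fun c => trF img (invW D.inv (D.cl c).a) 0))

/-- The model of the subgroup. -/
structure Model (ev : ℕ → G) {P : Type*} [Group P] (evP : ℕ → P) (θ : P →* G)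
    (φ : P →* Equiv.Perm ℕ) (img : ℕ → ℕ → ℕ) (n : ℕ) : Prop where
  map : ∀ l, 1 ≤ l → l < D.m → θ (evP l) = ev l
  act : IsAct φ evP img n D.m
  lt : ∀ p, φ p 0 < n
  stab : fixS φ [0] ≤ gen evP (D.KL.map fun l => [l])
  kl : (inR D.m D.KL && D.sg.all (inR D.m)) = true

/-- The union of the double cosets. -/
def InU (ev : ℕ → G) (H : Subgroup G) {P : Type*} [Group P] (θ : P →* G) (I : List ℕ) (x : G) :
    Prop := ∃ i ∈ I, ∃ p, RC H x (evL ev (D.gw i) * θ p)

variable {D} {P : Type*} [Group P] {evP : ℕ → P} {θ : P →* G} {φ : P →* Equiv.Perm ℕ}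
  {img : ℕ → ℕ → ℕ} {n : ℕ}

theorem Model.mapW (M : D.Model ev evP θ φ img n) {w : List ℕ} (hw : inR D.m w = true) :
    θ (evL evP w) = evL ev w := by
  rw [map_evL]
  exact evL_congr fun x hx => M.map x (inR_spec hw x hx).1 (inR_spec hw x hx).2

theorem Model.conj (M : D.Model ev evP θ φ img n) (h : D.Hyp ev H) {k : P} (hk : φ k 0 = 0) :
    ∃ k', θ k * ev D.T = ev D.T * θ k' := by
  have hkl := M.kl
  simp only [Bool.and_eq_true, List.all_eq_true] at hkl
  have h1 : gen evP (D.KL.map fun l => [l]) ≤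
      (θ.range.comap (MulAut.conj (ev D.T)⁻¹).toMonoidHom).comap θ := by
    refine gen_le fun w hw => ?_
    obtain ⟨l, hl, rfl⟩ := List.mem_map.mp hw
    refine ⟨evS evP D.sg l, ?_⟩
    have h2 : θ (evS evP D.sg l) = evS ev D.sg l := by
      by_cases hx : l < D.sg.length
      · unfold evS
        rw [List.getD_eq_getElem _ _ hx]
        exact M.mapW (hkl.2 _ (List.getElem_mem hx))
      · unfold evS
        rw [List.getD_eq_default _ _ (by omega)]
        exact map_one θ
    rw [h2, evL_singleton, M.map l (inR_spec hkl.1 l hl).1 (inR_spec hkl.1 l hl).2]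
    simp [mul_assoc, h.conj l hl]
  obtain ⟨k', e⟩ := h1 (M.stab (mem_fixS.mpr (by simpa using hk)))
  exact ⟨k', by rw [e]; simp [mul_assoc]⟩

theorem genW_le (M : D.Model ev evP θ φ img n) (h : D.Hyp ev H) {N : ℕ}
    (hv : ∀ c < N, D.Valid ev H (D.cl c)) {i : ℕ} {Gs : List ℕ} (e : D.genChk N i Gs = true) :
    gen evP (D.genW Gs) ≤ (rcStab H (evL ev (D.gw i))).comap θ := by
  unfold genChk at e
  simp only [Bool.and_eq_true, List.all_eq_true, Nat.blt_eq, Nat.beq_eq, Bool.not_eq_true'] at e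
  have key : ∀ c ∈ Gs, evL ev (D.cl c).b ∈ rcStab H (evL ev (D.gw i)) := by
    intro c hc
    obtain ⟨⟨⟨c1, c2⟩, c3⟩, c4⟩ := e.1 c hc
    have := hv c c1
    unfold Valid at this
    rwa [c2, if_neg (by simp), c3, c4] at this
  refine gen_le fun w hw => ?_
  rw [Subgroup.mem_comap, M.mapW (e.2 w hw)]
  rcases List.mem_append.mp hw with h1 | h1
  · obtain ⟨c, hc, rfl⟩ := List.mem_map.mp h1
    exact key c hc
  · obtain ⟨c, hc, rfl⟩ := List.mem_map.mp h1
    rw [evL_invW h.good]
    exact Subgroup.inv_mem _ (key c hc)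

theorem fin_sound (M : D.Model ev evP θ φ img n) (h : D.Hyp ev H) {N : ℕ}
    (hv : ∀ c < N, D.Valid ev H (D.cl c)) {I : List ℕ} {i : ℕ} {Gs Fs us : List ℕ}
    (e : D.finChk img n N I i Gs Fs us = true) (p : P) :
    D.InU ev H θ I (evL ev (D.gw i) * θ p * ev D.T) := by
  unfold finChk at e
  simp only [Bool.and_eq_true] at e
  obtain ⟨⟨e1, e2⟩, e3⟩ := e
  have hS := genW_le M h hv e1
  have h0 : 0 < n := by simpa using M.lt 1
  refine (orbRun2_sound (Q := fun q => q < n ∧
    ∀ p, φ p 0 = q → D.InU ev H θ I (evL ev (D.gw i) * θ p * ev D.T)) ?_ us _ ?_ e3 (φ p 0)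
    (by rw [Nat.testBit_two_pow_sub_one]; simpa using M.lt p)).2 p rfl
  · rintro w hw q ⟨h1, h2⟩
    unfold genChk at e1
    simp only [Bool.and_eq_true, List.all_eq_true] at e1
    obtain ⟨h3, h4⟩ := M.act.trF (e1.2 w hw) h1
    refine ⟨h4, fun p' hp' => ?_⟩
    obtain ⟨j, hj, p2, h5⟩ := h2 (evL evP w * p') (by
      rw [map_mul, Equiv.Perm.mul_apply, hp', ← h3]; simp)
    refine ⟨j, hj, p2, RC.trans ?_ h5⟩
    rw [map_mul, ← mul_assoc]
    have h6 : RC H (evL ev (D.gw i)) (evL ev (D.gw i) * θ (evL evP w)) := hS (evL_mem_gen evP hw)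
    exact (h6.mul _).mul _
  · intro q hq
    obtain ⟨c, hc, rfl⟩ := List.mem_map.mp (maskL_spec _ _ hq)
    simp only [Bool.and_eq_true, List.all_eq_true, Nat.blt_eq, Nat.beq_eq] at e2
    obtain ⟨⟨⟨⟨⟨c1, c2⟩, c3⟩, c4⟩, c5⟩, c6⟩ := e2 c hc
    obtain ⟨h3, h4⟩ := M.act.trF c5 h0
    refine ⟨h4, fun p' hp' => ?_⟩
    obtain ⟨k', hk'⟩ := M.conj h (k := evL evP (invW D.inv (D.cl c).a) * p') (by
      rw [map_mul, Equiv.Perm.mul_apply, hp', ← h3]; simp)
    rw [map_mul, M.mapW c5, evL_invW h.good] at hk'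
    have h5 := hv c c1
    unfold Valid at h5
    rw [c2, if_pos rfl, c3] at h5
    refine ⟨_, List.mem_of_elem_eq_true c4, evL evP (D.cl c).b * k', ?_⟩
    rw [map_mul, M.mapW c6, ← mul_assoc]
    convert h5.mul (θ k') using 1
    rw [mul_assoc _ (ev D.T), ← hk']
    group

theorem all_inU {I : List ℕ} (h0 : ∃ i ∈ I, D.gw i = [])
    (hT : ∀ i ∈ I, ∀ p, D.InU ev H θ I (evL ev (D.gw i) * θ p * ev D.T))
    (hinv : ∃ a b, (ev D.T)⁻¹ = θ a * ev D.T * θ b) {X : List (List ℕ)} (hX : gen ev X = ⊤)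
    (hX' : ∀ w ∈ X, evL ev w = ev D.T ∨ ∃ p, evL ev w = θ p) (x : G) : D.InU ev H θ I x := by
  have k1 : ∀ y p, D.InU ev H θ I y → D.InU ev H θ I (y * θ p) := by
    rintro y p ⟨i, hi, q, hq⟩
    exact ⟨i, hi, q * p, by rw [map_mul, ← mul_assoc]; exact hq.mul _⟩
  have k2 : ∀ y, D.InU ev H θ I y → D.InU ev H θ I (y * ev D.T) := by
    rintro y ⟨i, hi, q, hq⟩
    obtain ⟨j, hj, q', hq'⟩ := hT i hi q
    exact ⟨j, hj, q', (hq.mul _).trans hq'⟩
  have key : ∀ g ∈ gen ev X, ∀ y, D.InU ev H θ I y → D.InU ev H θ I (y * g) := by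
    intro g hg
    refine Subgroup.closure_induction'' ?_ ?_ ?_ ?_ hg
    · rintro _ ⟨w, hw, rfl⟩ y hy
      rcases hX' w hw with e | ⟨p, e⟩
      · rw [e]; exact k2 y hy
      · rw [e]; exact k1 y p hy
    · rintro _ ⟨w, hw, rfl⟩ y hy
      rcases hX' w hw with e | ⟨p, e⟩
      · obtain ⟨a, b, e'⟩ := hinv
        rw [e, e', ← mul_assoc, ← mul_assoc]
        exact k1 _ _ (k2 _ (k1 _ _ hy))
      · rw [e, ← map_inv]; exact k1 y _ hy
    · intro y hy; rwa [mul_one]
    · intro a b _ _ ha hb y hy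
      rw [← mul_assoc]
      exact hb _ (ha _ hy)
  obtain ⟨i, hi, e⟩ := h0
  have := key x (hX ▸ Subgroup.mem_top x) 1 ⟨i, hi, 1, by rw [e]; simpa [evL_nil] using RC.refl H 1⟩
  rwa [one_mul] at this

theorem cover_aux (E : List (ℕ × ℕ))
    (hE : ∀ e ∈ E, Cover ((rcStab H (evL ev (D.gw e.1))).comap θ) ⊤ e.2) :
    ∃ r : ℕ → G, ∀ y, D.InU ev H θ (E.map Prod.fst) y →
      ∃ j < (E.map Prod.snd).sum, y * (r j)⁻¹ ∈ H := by
  induction E with
  | nil => exact ⟨fun _ => 1, by rintro y ⟨i, hi, _⟩; simp at hi⟩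
  | cons e E ih =>
    obtain ⟨r, hr⟩ := ih fun e' he' => hE e' (List.mem_cons_of_mem _ he')
    obtain ⟨r0, hr0⟩ := hE e List.mem_cons_self
    refine ⟨fun j => if j < e.2 then evL ev (D.gw e.1) * θ (r0 j) else r (j - e.2), ?_⟩
    rintro y ⟨i, hi, p, hp⟩
    rw [List.map_cons, List.sum_cons]
    rcases List.mem_cons.mp hi with rfl | hi
    · obtain ⟨j, hj, hm⟩ := hr0 p (Subgroup.mem_top _)
      refine ⟨j, by omega, ?_⟩
      simp only [if_pos hj]
      have h1 : RC H (evL ev (D.gw e.1)) (evL ev (D.gw e.1) * θ (p * (r0 j)⁻¹)) := hm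
      refine hp.trans ?_
      simpa [mul_assoc] using (h1.mul (θ (r0 j))).symm
    · obtain ⟨j, hj, hm⟩ := hr y ⟨i, hi, p, hp⟩
      refine ⟨e.2 + j, by omega, ?_⟩
      simp only [if_neg (show ¬ e.2 + j < e.2 by omega), Nat.add_sub_cancel_left]
      exact hm

theorem cover (E : List (ℕ × ℕ))
    (hE : ∀ e ∈ E, Cover ((rcStab H (evL ev (D.gw e.1))).comap θ) ⊤ e.2)
    (hU : ∀ x, D.InU ev H θ (E.map Prod.fst) x) : Cover H ⊤ (E.map Prod.snd).sum := by
  obtain ⟨r, hr⟩ := cover_aux E hE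
  exact ⟨r, fun y _ => hr y (hU y)⟩

end Dce

/-- Words that are cyclic conjugates of relators, or of inverses of relators. -/
def cycChk (inv : ℕ) (RS : List (List ℕ)) (w : List ℕ) : Bool :=
  (List.range (w.length + 1)).any fun i => RS.elem (red inv (w.drop i ++ w.take i))

theorem cyc_sound {inv : ℕ} (hev : Good ev inv) {R : List (List ℕ)} (hR : Rels ev R) {w : List ℕ}
    (h : cycChk inv (relSet inv R) w = true) : evL ev w = 1 := by
  unfold cycChk at h
  obtain ⟨i, _, e⟩ := List.any_eq_true.mp h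
  have := rels_relSet hev hR _ (List.mem_of_elem_eq_true e)
  rw [evL_red hev, evL_append, mul_eq_one_comm, ← evL_append, List.take_append_drop] at this
  exact this

theorem pats_sound {inv T TI : ℕ} (hev : Good ev inv) (hT : ev TI = (ev T)⁻¹) {R : List (List ℕ)}
    (hR : Rels ev R) {pats : List (List ℕ × Bool)}
    (h : (pats.all fun p => cycChk inv (relSet inv R) (if p.2 = true then p.1 ++ [TI] else p.1)) =
      true) : ∀ p ∈ pats, evL ev p.1 = if p.2 = true then ev T else 1 := by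
  intro p hp
  have := cyc_sound hev hR (List.all_eq_true.mp h p hp)
  split_ifs at this ⊢
  · rwa [evL_append, evL_singleton, hT, mul_inv_eq_one] at this
  · exact this

theorem conj_sound {inv T TI : ℕ} (hev : Good ev inv) (hT : ev TI = (ev T)⁻¹) {R : List (List ℕ)}
    (hR : Rels ev R) {KL : List ℕ} {sg : List (List ℕ)}
    (h : (KL.all fun l => cycChk inv (relSet inv R) ([TI, l, T] ++ invW inv (sg.getD l []))) =
      true) : ∀ l ∈ KL, ev l * ev T = ev T * evS ev sg l := by
  intro l hl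
  have := cyc_sound hev hR (List.all_eq_true.mp h l hl)
  rw [evL_append, evL_invW hev, mul_inv_eq_one, evL_cons, evL_cons, evL_singleton, hT,
    inv_mul_eq_iff_eq_mul] at this
  exact this

end Cfsg.H6
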