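import Cfsg.Agent.H6.PM
import Cfsg.Agent.H6.DCE2

/-! Representations by packed matrices; divisors of the group order from orbits of vectors. -/

set_option autoImplicit false

namespace Cfsg.H6

section Mon

variable {M : Type*} [Monoid M] {A : ℕ → M}

/-- The product along a word. -/
def mpr (A : ℕ → M) (w : List ℕ) : M := (w.map A).prod

theorem mpr_nil (A : ℕ → M) : mpr A [] = 1 := rfl

theorem mpr_cons (A : ℕ → M) (x : ℕ) (w : List ℕ) : mpr A (x :: w) = A x * mpr A w := by simp [mpr]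

theorem mpr_append (A : ℕ → M) (u v : List ℕ) : mpr A (u ++ v) = mpr A u * mpr A v := by simp [mpr]

theorem mpr_rp (A : ℕ → M) (k a : ℕ) : mpr A (rp k [a]) = A a ^ k := by
  induction k with
  | zero => simp [rp, mpr]
  | succ k ih =>
    have : rp (k + 1) [a] = a :: rp k [a] := by simp [rp, List.replicate_succ]
    rw [this, mpr_cons, ih, pow_succ']

theorem map_evL_mpr {G : Type*} [Group G] {ev : ℕ → G} {μ : G →* M} {m : ℕ}
    (h : ∀ x, 1 ≤ x → x < m → μ (ev x) = A x) {w : List ℕ} (hw : inR m w = true) :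
    μ (evL ev w) = mpr A w := by
  have hw' := inR_spec hw
  clear hw
  induction w with
  | nil => exact map_one μ
  | cons x w ih =>
    rw [evL_cons, map_mul, mpr_cons, ih fun y hy => hw' y (by simp [hy]),
      h x (hw' x (by simp)).1 (hw' x (by simp)).2]

/-- The letters below `m` are the products of their expansions. -/
def Ex (A : ℕ → M) (σ : List (List ℕ)) (m : ℕ) : Prop :=
  ∀ x, 1 ≤ x → x < m → A x = mpr A (σ.getD x [])

theorem Ex.base {σ : List (List ℕ)} {m : ℕ}
    (h : ((List.range m).all fun x => x == 0 || σ.getD x [] == [x]) = true) : Ex A σ m := by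
  intro x h1 h2
  simp only [List.all_eq_true, List.mem_range, Bool.or_eq_true, beq_iff_eq] at h
  rcases h x h2 with e | e
  · omega
  · rw [e]; simp [mpr]

theorem Ex.mpr {σ : List (List ℕ)} {m : ℕ} (h : Ex A σ m) {w : List ℕ} (hw : inR m w = true) :
    mpr A w = mpr A (subst σ w) := by
  have hw' := inR_spec hw
  clear hw
  induction w with
  | nil => rfl
  | cons x w ih =>
    have : subst σ (x :: w) = σ.getD x [] ++ subst σ w := by simp [subst]
    rw [this, mpr_cons, mpr_append, ih fun y hy => hw' y (by simp [hy]),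
      ← h x (hw' x (by simp)).1 (hw' x (by simp)).2]

theorem Ex.step {σ : List (List ℕ)} {m : ℕ} (h : Ex A σ m) {w : List ℕ} (e : A m = H6.mpr A w)
    (hc : (inR m w && subst σ w == σ.getD m []) = true) : Ex A σ (m + 1) := by
  simp only [Bool.and_eq_true, beq_iff_eq] at hc
  intro x h1 h2
  by_cases hx : x = m
  · rw [hx, e, h.mpr hc.1, hc.2]
  · exact h x h1 (by omega)

open Classical in
/-- The units given by the letters below `m`. -/
noncomputable def evU (A : ℕ → M) (m x : ℕ) : Mˣ :=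
  if h : 1 ≤ x ∧ x < m ∧ IsUnit (A x) then h.2.2.unit else 1

variable {G : Type*} [Group G] {μ : G →* M}

/-- The letters below `m` are in the image. -/
def Mem (μ : G →* M) (A : ℕ → M) (m : ℕ) : Prop := ∀ x, 1 ≤ x → x < m → ∃ g, μ g = A x

open Classical in
/-- Preimages of the letters. -/
noncomputable def ev2 (μ : G →* M) (A : ℕ → M) (x : ℕ) : G :=
  if h : ∃ g, μ g = A x then h.choose else 1

theorem Mem.ev2 {m : ℕ} (h : Mem μ A m) : ∀ x, 1 ≤ x → x < m → μ (ev2 μ A x) = A x := by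
  intro x h1 h2
  unfold H6.ev2
  rw [dif_pos (h x h1 h2)]
  exact (h x h1 h2).choose_spec

theorem Mem.base {ev : ℕ → G} {m : ℕ} (h : ∀ x, 1 ≤ x → x < m → μ (ev x) = A x) : Mem μ A m :=
  fun x h1 h2 => ⟨_, h x h1 h2⟩

theorem Mem.step {m : ℕ} (h : Mem μ A m) {w : List ℕ} (e : A m = mpr A w) (hc : inR m w = true) :
    Mem μ A (m + 1) := by
  intro x h1 h2
  by_cases hx : x = m
  · exact ⟨_, by rw [hx, e, map_evL_mpr h.ev2 hc]⟩
  · exact h x h1 (by omega)

theorem Mem.inv {m : ℕ} (h : Mem μ A m) {a : ℕ} (e : mpr A [a, m] = 1) (hc : inR m [a] = true) :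
    Mem μ A (m + 1) := by
  intro x h1 h2
  by_cases hx : x = m
  · obtain ⟨g, hg⟩ := h a (inR_spec hc a List.mem_cons_self).1 (inR_spec hc a List.mem_cons_self).2
    have e' : μ g * A m = 1 := by simpa [mpr, hg] using e
    exact ⟨g⁻¹, by rw [hx, ← mul_one (μ g⁻¹), ← e', ← mul_assoc, ← map_mul]; simp⟩
  · exact h x h1 (by omega)

/-- A power relation through a letter that stands for a word. -/
theorem pow_eq_one_of_mpr {ev : ℕ → G} {m : ℕ} (h : ∀ x, 1 ≤ x → x < m → μ (ev x) = A x)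
    (hμ : Function.Injective μ) {w : List ℕ} (hw : inR m w = true) {a k : ℕ} (e : A a = mpr A w)
    (e' : mpr A (rp k [a]) = 1) : evL ev w ^ k = 1 := by
  apply hμ
  rw [map_pow, map_evL_mpr h hw, ← e, ← mpr_rp, e', map_one]

theorem Ex.pow {ev : ℕ → G} {m : ℕ} (h : ∀ x, 1 ≤ x → x < m → μ (ev x) = A x)
    (hμ : Function.Injective μ) {σ : List (List ℕ)} {m' : ℕ} (hE : Ex A σ m') {w : List ℕ} {a k : ℕ}
    (e : H6.mpr A (rp k [a]) = 1) (hc : (inR m' [a] && σ.getD a [] == w && inR m w) = true) :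
    evL ev w ^ k = 1 := by
  simp only [Bool.and_eq_true, beq_iff_eq] at hc
  have h1 := inR_spec hc.1.1 a List.mem_cons_self
  exact pow_eq_one_of_mpr h hμ hc.2 (hc.1.2 ▸ hE a h1.1 h1.2) e

theorem Ex.kil {ev : ℕ → G} {inv m : ℕ} (hev : Good ev inv)
    (h : ∀ x, 1 ≤ x → x < m → μ (ev x) = A x) (hμ : Function.Injective μ) {σ : List (List ℕ)}
    {m' : ℕ} (hE : Ex A σ m') {N : Subgroup G} [N.Normal] {y : List ℕ} (hy : evL ev y ∈ N)
    (w t : List ℕ) {a k b o : ℕ} (e : H6.mpr A (rp k [a]) = 1) (e' : H6.mpr A (rp o [b]) = 1)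
    (hc : ((inR m' [a] && σ.getD a [] == invW inv w ++ y ++ w ++ t &&
      inR m (invW inv w ++ y ++ w ++ t)) && (inR m' [b] && σ.getD b [] == t && inR m t) &&
      Nat.gcd k o == 1) = true) : evL ev t ∈ N := by
  rw [Bool.and_eq_true, Bool.and_eq_true, beq_iff_eq] at hc
  have h1 := hE.pow h hμ e hc.1.1
  rw [evL_append, evL_append, evL_append, evL_invW hev] at h1
  exact mem_normal_of_pow hy h1 (hE.pow h hμ e' hc.1.2) hc.2

end Mon

section Rep

variable {K : Type*} [CommRing K] {ι : Type*} [Fintype ι] [DecidableEq ι] {A : ℕ → Matrix ι ι K}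

def repChk (m0 inv m : ℕ) (σ R R' : List (List ℕ)) : Bool :=
  decide (inv < 256 ^ m0) && invL inv 0 == 0 &&
  ((List.range m0).all fun l => l == 0 || (inR m0 [invL inv l] &&
    (R'.elem [invL inv l, l] || R'.elem [l, invL inv l]))) &&
  R'.all (inR m) && (R'.map (subst σ)).all (inR m0) &&
  R.all (cycChk inv (relSet inv (R'.map (subst σ))))

theorem mrep_sound {m0 inv m : ℕ} {σ R R' : List (List ℕ)} (hE : Ex A σ m)
    (h1 : ∀ r ∈ R', mpr A r = 1) (hc : repChk m0 inv m σ R R' = true) :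
    Good (evU A m0) inv ∧ Rels (evU A m0) R ∧
      ∀ x, 1 ≤ x → x < m0 → Units.coeHom _ (evU A m0 x) = A x := by
  unfold repChk at hc
  simp only [Bool.and_eq_true, decide_eq_true_eq, beq_iff_eq, List.all_eq_true, List.mem_range,
    Bool.or_eq_true] at hc
  obtain ⟨⟨⟨⟨⟨c1, c2⟩, c3⟩, c4⟩, c5⟩, c6⟩ := hc
  have k1 : ∀ l, 1 ≤ l → l < m0 → A (invL inv l) * A l = 1 := by
    intro l h2 h3
    rcases c3 l h3 with e | ⟨_, e | e⟩
    · omega
    · simpa [mpr] using h1 _ (List.mem_of_elem_eq_true e)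
    · rw [mul_eq_one_comm]
      simpa [mpr] using h1 _ (List.mem_of_elem_eq_true e)
  have k2 : ∀ x, 1 ≤ x → x < m0 → Units.coeHom _ (evU A m0 x) = A x := by
    intro x h2 h3
    have hu : IsUnit (A x) := ⟨⟨A x, A (invL inv x), mul_eq_one_comm.mp (k1 x h2 h3), k1 x h2 h3⟩, rfl⟩
    unfold evU
    rw [dif_pos ⟨h2, h3, hu⟩]
    exact hu.unit_spec
  have h0 : evU A m0 0 = 1 := dif_neg (by omega)
  have hg : Good (evU A m0) inv := by
    refine good_of_rels h0 (fun l hl => dif_neg (by omega)) c1 fun r hr => ?_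
    obtain ⟨l, hl, rfl⟩ := List.mem_map.mp hr
    rcases c3 l (List.mem_range.mp hl) with e | ⟨e, _⟩
    · rw [e, c2, evL_cons, evL_singleton, h0, one_mul]
    · by_cases hl0 : l = 0
      · rw [hl0, c2, evL_cons, evL_singleton, h0, one_mul]
      · have h2 := inR_spec e _ List.mem_cons_self
        have h3 := List.mem_range.mp hl
        apply Units.ext
        rw [Units.val_one, ← Units.coeHom_apply, evL_cons, evL_singleton, map_mul, k2 _ h2.1 h2.2, k2 l (by omega) h3,
          k1 l (by omega) h3]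
  refine ⟨hg, fun r hr => cyc_sound hg (fun r' hr' => ?_) (c6 r hr), k2⟩
  apply Units.ext
  show Units.coeHom (Matrix ι ι K) _ = 1
  rw [map_evL_mpr k2 (c5 r' hr')]
  obtain ⟨u, hu, rfl⟩ := List.mem_map.mp hr'
  rw [← hE.mpr (c4 u hu), h1 u hu]

variable {G : Type*} [Group G]

/-- The action on rows. -/
def rAct (μ : G →* Matrix ι ι K) (κ : Type) : G →* Equiv.Perm (Matrix κ ι K) where
  toFun g :=
    { toFun := fun X => X * μ g⁻¹
      invFun := fun X => X * μ g
      left_inv := fun X => by simp only; rw [Matrix.mul_assoc, ← map_mul]; simp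
      right_inv := fun X => by simp only; rw [Matrix.mul_assoc, ← map_mul]; simp }
  map_one' := by ext X; simp
  map_mul' g h := by ext X; simp [Matrix.mul_assoc]

theorem rAct_inv (μ : G →* Matrix ι ι K) (κ : Type) (g : G) (X : Matrix κ ι K) :
    (rAct μ κ g)⁻¹ X = X * μ g := rfl

end Rep

/-- The faithful quotient. -/
def kq {G M : Type*} [Group G] [Monoid M] (μ : G →* M) : G ⧸ μ.ker →* M :=
  QuotientGroup.lift μ.ker μ le_rfl

theorem Mem.kq {G M : Type*} [Group G] [Monoid M] {μ : G →* M} {A : ℕ → M} {m : ℕ}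
    (h : Mem μ A m) : Mem (kq μ) A m := fun x h1 h2 => by
  obtain ⟨g, hg⟩ := h x h1 h2
  exact ⟨g, hg⟩

theorem card_of_kq {G M : Type*} [Group G] [Monoid M] {μ : G →* M} {N : ℕ}
    (h : UB (⊤ : Subgroup G) N) (hd : N ∣ Nat.card (G ⧸ μ.ker)) :
    Nat.card G = N ∧ Function.Injective μ := by
  obtain ⟨_, h1⟩ := h.top
  have h2 := Subgroup.card_eq_card_quotient_mul_card_subgroup μ.ker
  have h3 := Nat.le_of_dvd Nat.card_pos hd
  have h4 : 0 < Nat.card μ.ker := Nat.card_pos
  have h5 : 0 < Nat.card (G ⧸ μ.ker) := Nat.card_pos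
  have h6 : Nat.card μ.ker = 1 := by nlinarith
  refine ⟨by rw [h6, mul_one] at h2; omega, (injective_iff_map_eq_one μ).mpr fun g hg => ?_⟩
  have : g ∈ μ.ker := hg
  rwa [Subgroup.card_eq_one.mp h6, Subgroup.mem_bot] at this

section Lab

variable {G : Type*} [Group G] {Ω : Type*} {ψ : G →* Equiv.Perm Ω} {ev : ℕ → G} {f : ℕ → Ω}
  {tab : ℕ → ℕ → ℕ} {n m : ℕ}

/-- The letters act on labelled points as the table says. -/
structure Lab (ψ : G →* Equiv.Perm Ω) (ev : ℕ → G) (f : ℕ → Ω) (tab : ℕ → ℕ → ℕ) (n m : ℕ) :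
    Prop where
  act : ∀ x, 1 ≤ x → x < m → ∀ p < n, (ψ (ev x))⁻¹ (f p) = f (tab x p) ∧ tab x p < n
  inj : ∀ p < n, ∀ p' < n, f p = f p' → p = p'

theorem Lab.tr (h : Lab ψ ev f tab n m) {w : List ℕ} (hw : inR m w = true) {p : ℕ} (hp : p < n) :
    (ψ (evL ev w))⁻¹ (f p) = f (trF tab w p) ∧ trF tab w p < n := by
  rw [trF_eq]
  have hw' := inR_spec hw
  clear hw
  induction w generalizing p with
  | nil => exact ⟨by simp [evL, tr_nil], hp⟩
  | cons x w ih =>
    obtain ⟨h1, h2⟩ := h.act x (hw' x (by simp)).1 (hw' x (by simp)).2 p hp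
    rw [evL_cons, map_mul, mul_inv_rev, Equiv.Perm.mul_apply, h1, tr_cons]
    exact ih h2 fun y hy => hw' y (by simp [hy])

theorem mem_maskL {l : List ℕ} {q : ℕ} (h : q ∈ l) : (maskL l).testBit q = true := by
  induction l with
  | nil => simp at h
  | cons p l ih =>
    show (maskL l ||| 1 <<< p).testBit q = true
    rw [Nat.testBit_or, Nat.one_shiftLeft, Nat.testBit_two_pow, Bool.or_eq_true, decide_eq_true_eq]
    rcases List.mem_cons.mp h with e | e
    · exact Or.inr e.symm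
    · exact Or.inl (ih e)

noncomputable def dvChk (tab : ℕ → ℕ → ℕ) (n m b : ℕ) (Ws Vs : List (List ℕ)) (S us : List ℕ) :
    Bool :=
  (Ws ++ Vs).all (inR m) && decide (S.IsChain (· < ·)) && ltB n S && S.elem b &&
    frcB (fun F => (S.all fun p => (Ws ++ Vs).all fun w => Nat.testBit F (trF tab w p)) &&
      orbRun2 tab (Ws ++ Vs) F us (Nat.shiftLeft 1 b)) (maskL S) &&
    Vs.all fun w => Nat.beq (trF tab w b) b

theorem Lab.dvd (h : Lab ψ ev f tab n m) {b : ℕ} {Ws Vs : List (List ℕ)} {S us : List ℕ}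
    (hc : dvChk tab n m b Ws Vs S us = true) {N : ℕ} (hN : N ∣ Nat.card (gen ev Vs)) :
    S.length * N ∣ Nat.card (gen ev (Ws ++ Vs)) := by
  unfold dvChk at hc
  rw [frcB_eq] at hc
  simp only [Bool.and_eq_true, List.all_eq_true, decide_eq_true_eq, Nat.beq_eq] at hc
  obtain ⟨⟨⟨⟨⟨c1, c2⟩, c3⟩, c4⟩, c5, c6⟩, c7⟩ := hc
  have hS := ltB_spec c3
  have hb := List.mem_of_elem_eq_true c4
  have hnd : S.Nodup := (List.isChain_iff_pairwise.mp c2).imp ne_of_lt
  have horb : orb ψ (gen ev (Ws ++ Vs)) (f b) = f '' {p | p ∈ S} := by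
    apply Set.Subset.antisymm
    · rintro _ ⟨g, hg, rfl⟩
      refine gen_preserves ((List.finite_toSet S).image f) ?_ g hg _ ⟨b, hb, rfl⟩
      rintro w hw _ ⟨p, hp, rfl⟩
      exact ⟨_, maskL_spec _ _ (c5 p hp w hw), (h.tr (c1 w hw) (hS p hp)).1.symm⟩
    · rintro _ ⟨p, hp, rfl⟩
      refine (orbRun2_sound (Q := fun q => q < n ∧ f q ∈ orb ψ (gen ev (Ws ++ Vs)) (f b)) ?_ us _ ?_
        c6 p (mem_maskL hp)).2
      · rintro w hw q ⟨h1, h2⟩
        obtain ⟨h3, h4⟩ := h.tr (c1 w hw) h1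
        exact ⟨h4, h3 ▸ orb_step h2 (evL_mem_gen ev hw)⟩
      · intro q hq
        have hq' : (1 <<< b).testBit q = true := hq
        rw [Nat.one_shiftLeft, Nat.testBit_two_pow, decide_eq_true_eq] at hq'
        exact hq' ▸ ⟨hS b hb, mem_orb_self _ _ _⟩
  have h1 := relIndex_fixS ψ (gen ev (Ws ++ Vs)) (f b)
  rw [horb, Set.InjOn.ncard_image (s := {p | p ∈ S})
      (fun p hp p' hp' e => h.inj p (hS p hp) p' (hS p' hp') e),
    ← List.coe_toFinset, Set.ncard_coe_finset, List.toFinset_card_of_nodup hnd] at h1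
  have h2 : gen ev Vs ≤ fixS ψ [f b] ⊓ gen ev (Ws ++ Vs) := by
    refine le_inf (gen_le fun w hw => ?_) (gen_mono ev fun w hw => List.mem_append_right _ hw)
    rw [mem_fixS']
    intro c hc
    rw [List.mem_singleton.mp hc, (h.tr (c1 w (List.mem_append_right _ hw)) (hS b hb)).1, c7 w hw]
  have h3 := Subgroup.card_mul_index ((fixS ψ [f b]).subgroupOf (gen ev (Ws ++ Vs)))
  have h4 : Nat.card ((fixS ψ [f b]).subgroupOf (gen ev (Ws ++ Vs))) =
      Nat.card (fixS ψ [f b] ⊓ gen ev (Ws ++ Vs) : Subgroup G) := by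
    rw [← Subgroup.inf_subgroupOf_right]
    exact Nat.card_congr (Subgroup.subgroupOfEquivOfLe inf_le_right).toEquiv
  rw [← h3, h4, ← h1, mul_comm]
  exact Nat.mul_dvd_mul (hN.trans (Subgroup.card_dvd_of_le h2)) dvd_rfl

end Lab

namespace Par

variable (P : Par)

/-- The matrices of the letters. -/
def mat (code : ℕ → ℕ) (x : ℕ) : Matrix (Fin P.d) (Fin P.d) (ZMod P.q) := P.dec P.d (code x)

/-- The action of the letters on codes. -/
noncomputable def img (r : ℕ) (code : ℕ → ℕ) (x p : ℕ) : ℕ := P.mul r (code x) p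

noncomputable def lab1 (r : ℕ) (code τ get : ℕ → ℕ) (tab : ℕ → ℕ → ℕ) (n m p : ℕ) : Bool :=
  ((List.range m).all fun x => Nat.beq x 0 ||
    (Nat.beq (P.mul r (code (τ x)) (get p)) (get (tab x p)) && Nat.blt (tab x p) n)) &&
  Nat.beq (tab m (tab 1 p)) p && (Nat.ble n (p + 1) || Nat.blt (get p) (get (p + 1)))

variable {P} {code : ℕ → ℕ}

theorem dec_tr (h : P.ok = true) (r : ℕ) (w : List ℕ) (p : ℕ) :
    P.dec r (trF (P.img r code) w p) = P.dec r p * mpr (P.mat code) w := by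
  rw [trF_eq]
  induction w generalizing p with
  | nil => rw [tr_nil, mpr_nil, Matrix.mul_one]
  | cons x w ih =>
    rw [tr_cons, ih, mpr_cons, ← Matrix.mul_assoc]
    unfold img
    rw [dec_mul h]
    rfl

theorem def_of_chk (h : P.ok = true) {x a : ℕ} {w : List ℕ}
    (e : Nat.beq (trF (P.img P.d code) w (code x)) (code a) = true) :
    P.mat code a = mpr (P.mat code) (x :: w) := by
  rw [mpr_cons]
  unfold mat
  rw [← Nat.eq_of_beq_eq_true e]
  exact dec_tr h _ _ _

theorem one_of_chk (h : P.ok = true) (ht : 0 < P.t) {x : ℕ} {w : List ℕ}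
    (e : Nat.beq (trF (P.img P.d code) w (code x)) P.one = true) :
    mpr (P.mat code) (x :: w) = 1 := by
  rw [mpr_cons, ← dec_one h ht, ← Nat.eq_of_beq_eq_true e]
  exact (dec_tr h _ _ _).symm

theorem lab {G : Type*} [Group G] {μ : G →* Matrix (Fin P.d) (Fin P.d) (ZMod P.q)}
    (h : P.ok = true) {m0 : ℕ} (hM : Mem μ (P.mat code) m0) {r : ℕ} {τ get : ℕ → ℕ}
    {tab : ℕ → ℕ → ℕ} {n m : ℕ}
    (hτ : (Nat.blt 1 m && (List.range m).all fun x => Nat.beq x 0 || inR m0 [τ x]) = true)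
    (hc : ∀ p, 0 ≤ p → p < n → P.lab1 r code τ get tab n m p = true) :
    Lab (rAct μ (Fin r)) (fun x => ev2 μ (P.mat code) (τ x)) (fun p => P.dec r (get p)) tab n m := by
  simp only [Bool.and_eq_true, List.all_eq_true, List.mem_range, Bool.or_eq_true, Nat.beq_eq,
    Nat.blt_eq] at hτ
  have hc' : ∀ p < n, (∀ x, 1 ≤ x → x < m →
      P.mul r (code (τ x)) (get p) = get (tab x p) ∧ tab x p < n) ∧ tab m (tab 1 p) = p ∧
      (p + 1 < n → get p < get (p + 1)) := by
    intro p hp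
    have := hc p (Nat.zero_le _) hp
    unfold lab1 at this
    simp only [Bool.and_eq_true, List.all_eq_true, List.mem_range, Bool.or_eq_true, Nat.beq_eq,
      Nat.blt_eq, Nat.ble_eq] at this
    refine ⟨fun x h1 h2 => ?_, this.1.2, fun h1 => ?_⟩
    · rcases this.1.1 x h2 with e | e
      · omega
      · exact e
    · rcases this.2 with e | e
      · omega
      · exact e
  have mono : ∀ k p, p + k + 1 < n → get p < get (p + k + 1) := by
    intro k
    induction k with
    | zero => intro p hp; exact (hc' p (by omega)).2.2 hp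
    | succ k ih =>
      intro p hp
      exact (ih p (by omega)).trans ((hc' (p + k + 1) (by omega)).2.2 hp)
  have hinj : ∀ p < n, ∀ p' < n, get p = get p' → p = p' := by
    intro p hp p' hp' e
    rcases lt_trichotomy p p' with h1 | h1 | h1
    · obtain ⟨k, rfl⟩ : ∃ k, p' = p + k + 1 := ⟨p' - p - 1, by omega⟩
      exact absurd e (mono k p hp').ne
    · exact h1
    · obtain ⟨k, rfl⟩ : ∃ k, p = p' + k + 1 := ⟨p - p' - 1, by omega⟩
      exact absurd e (mono k p' hp).ne'
  refine ⟨fun x h1 h2 p hp => ?_, fun p hp p' hp' e => ?_⟩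
  · obtain ⟨h3, h4⟩ := (hc' p hp).1 x h1 h2
    refine ⟨?_, h4⟩
    rcases hτ.2 x h2 with e | e
    · omega
    · have h5 := inR_spec e _ List.mem_cons_self
      rw [rAct_inv, hM.ev2 _ h5.1 h5.2, ← h3, dec_mul h]
      rfl
  · obtain ⟨h3, h4⟩ := (hc' p hp).1 1 le_rfl hτ.1
    obtain ⟨h5, h6⟩ := (hc' p' hp').1 1 le_rfl hτ.1
    have h7 := mul_congr (A := code (τ 1)) h e
    rw [h3, h5] at h7
    rw [← (hc' p hp).2.1, hinj _ h4 _ h6 h7, (hc' p' hp').2.1]

end Par

end Cfsg.H6
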