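import Cfsg.Agent.H6.More3

/-!
Certificates of double coset enumerations.  A group is generated by a subgroup `H` and one more
element, the letter `T`.  A claim says that two right cosets of `H` are equal.
-/

set_option autoImplicit false

namespace Cfsg.H6

variable {G : Type*} [Group G] {ev : ℕ → G}

/-- The same right coset. -/
def RC (H : Subgroup G) (x y : G) : Prop := x * y⁻¹ ∈ H

theorem RC.refl (H : Subgroup G) (x : G) : RC H x x := by simp [RC]

theorem RC.symm {H : Subgroup G} {x y : G} (h : RC H x y) : RC H y x := by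
  simpa [RC] using H.inv_mem h

theorem RC.trans {H : Subgroup G} {x y z : G} (h : RC H x y) (h' : RC H y z) : RC H x z := by
  simpa [RC, mul_assoc] using H.mul_mem h h'

theorem RC.mul {H : Subgroup G} {x y : G} (h : RC H x y) (z : G) : RC H (x * z) (y * z) := by
  simpa [RC, mul_assoc] using h

/-- A claim: `H g_i a T = H g_j b` if `e`, and `H g_i = H g_j b` otherwise; with its derivation. -/
structure Clm where
  i : ℕ
  j : ℕ
  e : Bool
  a : List ℕ
  b : List ℕ
  kind : ℕ
  steps : List (List ℕ × ℕ × List ℕ)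
  fin : List ℕ

/-- The fixed data of a certificate. -/
structure Dce where
  inv : ℕ
  m : ℕ
  T : ℕ
  TI : ℕ
  KL : List ℕ
  ax : List (List ℕ)
  sg : List (List ℕ)
  chk : List ℕ → Bool
  pats : List (List ℕ × Bool)
  gw : ℕ → List ℕ
  cl : ℕ → Clm

namespace Dce

variable (D : Dce)

def Valid (ev : ℕ → G) (H : Subgroup G) (c : Clm) : Prop :=
  if c.e then RC H (evL ev (D.gw c.i) * evL ev c.a * ev D.T) (evL ev (D.gw c.j) * evL ev c.b)
  else RC H (evL ev (D.gw c.i)) (evL ev (D.gw c.j) * evL ev c.b)

def eqb (u v : List ℕ) : Bool := D.chk (u ++ invW D.inv v)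

def move1 (id : ℕ) (c : Clm) (mv : ℕ) (s : ℕ × List ℕ) : Option (ℕ × List ℕ) :=
  if (Nat.blt (mv / 2) id && !c.e) = true then
    if Nat.beq (mv % 2) 0 = true then
      (if Nat.beq s.1 c.i = true then some (c.j, c.b ++ s.2) else none)
    else (if Nat.beq s.1 c.j = true then some (c.i, invW D.inv c.b ++ s.2) else none)
  else none

def moves (id : ℕ) (l : List ℕ) (s : ℕ × List ℕ) : Option (ℕ × List ℕ) :=
  l.foldl (fun o mv => o.bind (D.move1 id (D.cl (mv / 2)) mv)) (some s)

def fwd1 (c : Clm) (k : List ℕ) (s : ℕ × List ℕ) : Option (ℕ × List ℕ) :=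
  if (Nat.beq s.1 c.i && D.eqb s.2 (c.a ++ k)) = true then some (c.j, c.b ++ subst D.sg k) else none

def bwd1 (c : Clm) (k : List ℕ) (s : ℕ × List ℕ) : Option (ℕ × List ℕ) :=
  if (Nat.beq s.1 c.j && D.eqb s.2 (c.b ++ subst D.sg k)) = true then some (c.i, c.a ++ k) else none

def step (id : ℕ) (f : Bool) (st : List ℕ × ℕ × List ℕ) (s : ℕ × List ℕ) : Option (ℕ × List ℕ) :=
  if (Nat.blt st.2.1 id && (D.cl st.2.1).e && st.2.2.all fun x => D.KL.elem x) = true then
    (D.moves id st.1 s).bind
      (if f = true then D.fwd1 (D.cl st.2.1) st.2.2 else D.bwd1 (D.cl st.2.1) st.2.2)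
  else none

/-- The state of a derivation: double coset, word, remaining steps. -/
abbrev St : Type := (ℕ × List ℕ) × List (List ℕ × ℕ × List ℕ)

def letter (id x : ℕ) (s : St) : Option St :=
  if (Nat.beq x D.T || Nat.beq x D.TI) = true then
    @List.casesOn _ (fun _ => Option St) s.2 none
      (fun st r => (D.step id (Nat.beq x D.T) st s.1).map fun s' => (s', r))
  else some ((s.1.1, s.1.2 ++ [x]), s.2)

def run (id : ℕ) (w : List ℕ) (s : St) : Option St :=
  w.foldl (fun o x => o.bind (D.letter id x)) (some s)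

def fin1 (c : Clm) (s : ℕ × List ℕ) : Bool :=
  Nat.beq s.1 c.j && D.eqb s.2 (if c.e = true then c.b else c.b ++ c.a)

def ok1 (id : ℕ) (c : Clm) : Bool :=
  if Nat.beq c.kind 0 = true then
    !c.e && D.gw c.i == [] && D.gw c.j == [] && D.ax.elem c.b
  else if Nat.beq c.kind 1 = true then
    c.e && c.b == [] && D.gw c.j == D.gw c.i ++ c.a ++ [D.T]
  else
    (D.pats.getD (c.kind - 2) ([], false)).2 == c.e &&
      (((D.run id (D.pats.getD (c.kind - 2) ([], false)).1 ((c.i, c.a), c.steps)).bind
        fun s => D.moves id c.fin s.1).map (D.fin1 c)).getD false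

def ok (id : ℕ) : Bool := D.ok1 id (D.cl id)

/-- What is needed of the group. -/
structure Hyp (ev : ℕ → G) (H : Subgroup G) : Prop where
  good : Good ev D.inv
  mem : ∀ w ∈ D.ax, evL ev w ∈ H
  ti : ev D.TI = (ev D.T)⁻¹
  conj : ∀ l ∈ D.KL, ev l * ev D.T = ev D.T * evS ev D.sg l
  chk : ∀ w, D.chk w = true → evL ev w = 1
  pat : ∀ p ∈ D.pats, evL ev p.1 = if p.2 = true then ev D.T else 1

variable {D} {H : Subgroup G}

theorem Hyp.eqb (h : D.Hyp ev H) {u v : List ℕ} (e : D.eqb u v = true) : evL ev u = evL ev v := by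
  have := h.chk _ e
  rwa [evL_append, evL_invW h.good, mul_inv_eq_one] at this

theorem Hyp.conjW (h : D.Hyp ev H) {k : List ℕ} (hk : ∀ x ∈ k, x ∈ D.KL) :
    evL ev k * ev D.T = ev D.T * evL ev (subst D.sg k) := by
  rw [← evL_subst]
  induction k with
  | nil => simp [evL]
  | cons x k ih =>
    rw [evL_cons, evL_cons, mul_assoc, ih fun y hy => hk y (by simp [hy]), ← mul_assoc,
      h.conj x (hk x (by simp)), mul_assoc]

/-- The coset of a state. -/
def At (D : Dce) (ev : ℕ → G) (H : Subgroup G) (X : G) (s : ℕ × List ℕ) : Prop :=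
  RC H X (evL ev (D.gw s.1) * evL ev s.2)

theorem moves_sound (h : D.Hyp ev H) {id : ℕ} (hv : ∀ c < id, D.Valid ev H (D.cl c)) {X : G}
    (l : List ℕ) : ∀ (o : Option (ℕ × List ℕ)), (∀ s, o = some s → At D ev H X s) →
      ∀ s, l.foldl (fun o mv => o.bind (D.move1 id (D.cl (mv / 2)) mv)) o = some s →
        At D ev H X s := by
  induction l with
  | nil => intro o ho s hs; exact ho s hs
  | cons mv l ih =>
    intro o ho s hs
    refine ih _ (fun s' hs' => ?_) s hs
    obtain ⟨s0, h0, h1⟩ := Option.bind_eq_some_iff.mp hs'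
    have h2 := ho s0 h0
    unfold move1 at h1
    split_ifs at h1 with c1 c2 c3 c4
    · simp only [Bool.and_eq_true, Nat.blt_eq, Bool.not_eq_true'] at c1
      have h3 := hv _ c1.1
      unfold Valid at h3
      rw [c1.2, if_neg (by simp)] at h3
      obtain rfl := Option.some.inj h1
      unfold At at h2 ⊢
      rw [Nat.eq_of_beq_eq_true c3] at h2
      rw [evL_append, ← mul_assoc]
      exact h2.trans (h3.mul _)
    · simp only [Bool.and_eq_true, Nat.blt_eq, Bool.not_eq_true'] at c1
      have h3 := hv _ c1.1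
      unfold Valid at h3
      rw [c1.2, if_neg (by simp)] at h3
      obtain rfl := Option.some.inj h1
      unfold At at h2 ⊢
      rw [Nat.eq_of_beq_eq_true c4] at h2
      rw [evL_append, ← mul_assoc, evL_invW h.good]
      refine h2.trans (RC.mul ?_ _)
      simpa using (h3.mul (evL ev (D.cl (mv / 2)).b)⁻¹).symm

theorem step_sound (h : D.Hyp ev H) {id : ℕ} (hv : ∀ c < id, D.Valid ev H (D.cl c)) {X : G}
    {f : Bool} {st : List ℕ × ℕ × List ℕ} {s s' : ℕ × List ℕ} (hs : At D ev H X s)
    (e : D.step id f st s = some s') :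
    At D ev H (X * if f = true then ev D.T else (ev D.T)⁻¹) s' := by
  unfold step at e
  split_ifs at e with c1 c2
  all_goals
    simp only [Bool.and_eq_true, Nat.blt_eq, List.all_eq_true] at c1
    obtain ⟨s0, h0, h1⟩ := Option.bind_eq_some_iff.mp e
    have h2 := moves_sound h hv _ _ (fun t ht => Option.some.inj ht ▸ hs) s0 h0
    have h3 := hv _ c1.1.1
    unfold Valid at h3
    rw [c1.1.2, if_pos rfl] at h3
    have h4 := h.conjW fun x hx => List.mem_of_elem_eq_true (c1.2 x hx)
  · unfold fwd1 at h1
    split_ifs at h1 with c3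
    simp only [Bool.and_eq_true, Nat.beq_eq] at c3
    obtain rfl := Option.some.inj h1
    unfold At at h2 ⊢
    rw [c3.1, h.eqb c3.2, evL_append] at h2
    rw [if_pos c2, evL_append, ← mul_assoc]
    refine (h2.mul _).trans ?_
    rw [← mul_assoc, mul_assoc _ (evL ev st.2.2), h4, ← mul_assoc]
    exact h3.mul _
  · unfold bwd1 at h1
    split_ifs at h1 with c3
    simp only [Bool.and_eq_true, Nat.beq_eq] at c3
    obtain rfl := Option.some.inj h1
    unfold At at h2 ⊢
    rw [c3.1, h.eqb c3.2, evL_append, ← mul_assoc] at h2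
    rw [if_neg c2, evL_append, ← mul_assoc]
    have h5 := (h2.trans (h3.mul _).symm).mul (ev D.T)⁻¹
    rwa [mul_assoc _ (ev D.T), ← h4, ← mul_assoc, mul_inv_cancel_right] at h5

theorem run_sound (h : D.Hyp ev H) {id : ℕ} (hv : ∀ c < id, D.Valid ev H (D.cl c))
    (w : List ℕ) : ∀ (X : G) (o : Option St), (∀ s, o = some s → At D ev H X s.1) →
      ∀ s, w.foldl (fun o x => o.bind (D.letter id x)) o = some s →
        At D ev H (X * evL ev w) s.1 := by
  induction w with
  | nil => intro X o ho s hs; simpa [evL] using ho s hs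
  | cons x w ih =>
    intro X o ho s hs
    rw [evL_cons, ← mul_assoc]
    refine ih _ _ (fun s' hs' => ?_) s hs
    obtain ⟨⟨s0, r0⟩, h0, h1⟩ := Option.bind_eq_some_iff.mp hs'
    have h2 := ho _ h0
    unfold letter at h1
    split_ifs at h1 with c1
    · cases r0 with
      | nil => exact absurd h1 (by simp)
      | cons st r =>
        obtain ⟨s1, h3, rfl⟩ := Option.map_eq_some_iff.mp h1
        have h4 := step_sound h hv h2 h3
        by_cases hx : x = D.T
        · rwa [hx, Nat.beq_refl, if_pos rfl, ← hx] at h4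
        · simp only [Bool.or_eq_true, Nat.beq_eq, hx, false_or] at c1
          rwa [if_neg (by simpa using hx), ← h.ti, ← c1] at h4
    · obtain rfl := Option.some.inj h1
      unfold At at h2 ⊢
      rw [evL_append, evL_singleton, ← mul_assoc]
      exact h2.mul _

theorem ok_sound (h : D.Hyp ev H) {id : ℕ} (hv : ∀ c < id, D.Valid ev H (D.cl c))
    (e : D.ok id = true) : D.Valid ev H (D.cl id) := by
  unfold ok at e
  generalize D.cl id = c at e
  unfold ok1 at e
  unfold Valid
  split_ifs at e with c1 c2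
  · simp only [Bool.and_eq_true, Bool.not_eq_true', beq_iff_eq] at e
    rw [e.1.1.1, if_neg (by simp), e.1.1.2, e.1.2]
    have := h.mem _ (List.mem_of_elem_eq_true e.2)
    simpa [RC, evL_nil] using this
  · simp only [Bool.and_eq_true, beq_iff_eq] at e
    rw [if_pos e.1.1, e.1.2, e.2, evL_append, evL_append, evL_singleton, evL_nil, mul_one]
    exact RC.refl _ _
  · simp only [Bool.and_eq_true, beq_iff_eq] at e
    obtain ⟨e1, e2⟩ := e
    have hp : evL ev (D.pats.getD (c.kind - 2) ([], false)).1 =
        if (D.pats.getD (c.kind - 2) ([], false)).2 = true then ev D.T else 1 := by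
      by_cases hk : c.kind - 2 < D.pats.length
      · rw [List.getD_eq_getElem _ _ hk]
        exact h.pat _ (List.getElem_mem hk)
      · rw [List.getD_eq_default _ _ (by omega)]
        rfl
    rw [e1] at hp
    generalize (D.pats.getD (c.kind - 2) ([], false)).1 = w at e2 hp
    cases hr : ((D.run id w ((c.i, c.a), c.steps)).bind fun s => D.moves id c.fin s.1) with
    | none => rw [hr] at e2; exact absurd e2 (by simp)
    | some s =>
      rw [hr] at e2
      obtain ⟨s0, h0, h1⟩ := Option.bind_eq_some_iff.mp hr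
      have h2 := run_sound h hv w (evL ev (D.gw c.i) * evL ev c.a) _
        (fun t ht => by obtain rfl := Option.some.inj ht; exact RC.refl _ _) s0 h0
      have h3 := moves_sound h hv _ _ (fun t ht => Option.some.inj ht ▸ h2) s h1
      have e3 : D.fin1 c s = true := e2
      unfold fin1 at e3
      simp only [Bool.and_eq_true, Nat.beq_eq] at e3
      unfold At at h3
      rw [e3.1, h.eqb e3.2, hp] at h3
      cases hc : c.e with
      | true => simpa [hc] using h3
      | false =>
        simp only [hc, Bool.false_eq_true, if_false, mul_one, evL_append] at h3 ⊢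
        simpa [mul_assoc] using h3.mul (evL ev c.a)⁻¹

theorem all_valid (h : D.Hyp ev H) {N : ℕ} (e : ∀ c, 0 ≤ c → c < N → D.ok c = true) :
    ∀ c < N, D.Valid ev H (D.cl c) := by
  intro c
  induction c using Nat.strong_induction_on with
  | _ c ih => exact fun hc => ok_sound h (fun c' h' => ih c' h' (by omega)) (e c (Nat.zero_le _) hc)

end Dce

end Cfsg.H6
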