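import Cfsg.Agent.H6.DCE2

/-! Double coset enumerations: the hypotheses from checks, maximality, and the core. -/

set_option autoImplicit false

namespace Cfsg.H6

variable {G : Type*} [Group G] {ev : ℕ → G} {H : Subgroup G}

noncomputable def selA {α : Type} (p y : ℕ) (a b : α) : α := @Bool.rec (fun _ => α) a b (Nat.ble p y)

theorem evS_append (ev : ℕ → G) (σ τ : List (List ℕ)) {l : ℕ} (h : l < σ.length) :
    evS ev (σ ++ τ) l = evS ev σ l := by
  unfold evS
  rw [List.getD_append _ _ _ _ h]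

theorem relIndex_le_of_cover {M : Subgroup G} (hM : H ≤ M) {n : ℕ} (hc : Cover H M n) :
    H.relIndex M ≤ n := by
  classical
  obtain ⟨r, hr⟩ := hc
  have : Cover (H.subgroupOf M) ⊤ n := by
    refine ⟨fun j => if h : r j ∈ M then ⟨r j, h⟩ else 1, fun y _ => ?_⟩
    obtain ⟨j, hj, hm⟩ := hr y y.2
    have h1 : r j ∈ M := by simpa using M.mul_mem (M.inv_mem (hM hm)) y.2
    exact ⟨j, hj, by simp only [dif_pos h1]; exact hm⟩
  exact this.index_le.2

theorem cover_of_relIndex {M : Subgroup G} (h0 : H.relIndex M ≠ 0) : Cover H M (H.relIndex M) := by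
  obtain ⟨r, hr⟩ := cover_of_index (S := H.subgroupOf M) h0 le_rfl
  refine ⟨fun j => r j, fun y hy => ?_⟩
  obtain ⟨j, hj, hm⟩ := hr ⟨y, hy⟩ (Subgroup.mem_top _)
  exact ⟨j, hj, hm⟩

theorem sum_filter_add (E : List (ℕ × ℕ)) (p : ℕ × ℕ → Bool) :
    ((E.filter p).map Prod.snd).sum + ((E.filter fun e => !p e).map Prod.snd).sum =
      (E.map Prod.snd).sum := by
  induction E with
  | nil => rfl
  | cons e E ih =>
    cases h : p e <;> simp only [List.filter_cons, h, List.map_cons, List.sum_cons, Bool.not_false,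
      Bool.not_true, if_true, Bool.false_eq_true, if_false] <;> omega

def maxChk (E : List (ℕ × ℕ)) (N : ℕ) : Bool :=
  (E.map Prod.snd).sum == N && E.sublists.all fun J =>
    N % (J.map Prod.snd).sum != 0 || (J.map Prod.snd).sum == 1 || (J.map Prod.snd).sum == N

namespace Dce

variable {D : Dce} {P : Type*} [Group P] {evP : ℕ → P} {θ : P →* G} {φ : P →* Equiv.Perm ℕ}
  {img : ℕ → ℕ → ℕ} {n : ℕ}

def hypChk (D : Dce) (inv : ℕ) (R σ : List (List ℕ)) : Bool :=
  goodS inv (relSet inv R) σ D.inv && invL D.inv D.T == D.TI &&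
    (D.pats.all fun p =>
      cycChk inv (relSet inv R) (subst σ (if p.2 = true then p.1 ++ [D.TI] else p.1))) &&
    D.KL.all fun l =>
      cycChk inv (relSet inv R) (subst σ ([D.TI, l, D.T] ++ invW D.inv (D.sg.getD l [])))

theorem hyp_of {inv : ℕ} (hev : Good ev inv) {R σ : List (List ℕ)} (hR : Rels ev R)
    (hc : D.hypChk inv R σ = true) (hchk : ∀ w, D.chk w = true → evL (evS ev σ) w = 1)
    (hmem : ∀ w ∈ D.ax, evL (evS ev σ) w ∈ H) : D.Hyp (evS ev σ) H := by
  unfold hypChk at hc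
  simp only [Bool.and_eq_true, beq_iff_eq, List.all_eq_true] at hc
  obtain ⟨⟨⟨c1, c2⟩, c3⟩, c4⟩ := hc
  have hg := good_evS hev hR c1
  have hT : evS ev σ D.TI = (evS ev σ D.T)⁻¹ := by rw [← c2]; exact hg.inv _
  refine ⟨hg, hmem, hT, fun l hl => ?_, hchk, fun p hp => ?_⟩
  · have := cyc_sound hev hR (c4 l hl)
    rw [← evL_subst, evL_append, evL_invW hg, mul_inv_eq_one, evL_cons, evL_cons, evL_singleton, hT,
      inv_mul_eq_iff_eq_mul] at this
    exact this
  · have := cyc_sound hev hR (c3 p hp)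
    rw [← evL_subst] at this
    split_ifs at this ⊢
    · rwa [evL_append, evL_singleton, hT, mul_inv_eq_one] at this
    · exact this

theorem chk_of {m : ℕ} (hθ : ∀ l, 1 ≤ l → l < m → θ (evP l) = ev l) {bs : List ℕ}
    (ho : Oracle evP img m bs) (w : List ℕ) (h : fixB img m bs w = true) : evL ev w = 1 := by
  have h1 := congrArg θ (ho w h)
  unfold fixB at h
  rw [Bool.and_eq_true] at h
  rw [map_one, map_evL] at h1
  rw [← h1]
  exact evL_congr fun x hx => (hθ x (inR_spec h.1 x hx).1 (inR_spec h.1 x hx).2).symm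

theorem valid_mem {c : Clm} (h : D.Valid ev H c)
    (e : (!c.e && D.gw c.i == [] && D.gw c.j == []) = true) : evL ev c.b ∈ H := by
  simp only [Bool.and_eq_true, Bool.not_eq_true', beq_iff_eq] at e
  unfold Valid at h
  rw [e.1.1, if_neg (by simp), e.1.2, e.2] at h
  simpa [RC, evL_nil] using h

theorem cover_one [Finite P] (M : D.Model ev evP θ φ img n) (h : D.Hyp ev H) {N : ℕ}
    (hv : ∀ c < N, D.Valid ev H (D.cl c)) {i : ℕ} {Gs : List ℕ} (e : D.genChk N i Gs = true)
    {a k : ℕ} (ha : a ≤ Nat.card (gen evP (D.genW Gs))) (hP : Nat.card P ≤ k * a) :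
    Cover ((rcStab H (evL ev (D.gw i))).comap θ) ⊤ k :=
  cover_of_cards (ha.trans (Subgroup.card_le_of_le (genW_le M h hv e))) hP

theorem cover_top (M : D.Model ev evP θ φ img n) (h : D.Hyp ev H) {N : ℕ}
    (hv : ∀ c < N, D.Valid ev H (D.cl c)) {i : ℕ} {Gs : List ℕ} (e : D.genChk N i Gs = true)
    (ha : ⊤ ≤ gen evP (D.genW Gs)) : Cover ((rcStab H (evL ev (D.gw i))).comap θ) ⊤ 1 :=
  ⟨fun _ => 1, fun y hy => ⟨0, by norm_num, by simpa using genW_le M h hv e (ha hy)⟩⟩

theorem hinv (M : D.Model ev evP θ φ img n) (h : D.Hyp ev H) {a b : List ℕ}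
    (hc : (inR D.m a && inR D.m b && D.pats.elem (a ++ [D.TI] ++ b, true)) = true) :
    ∃ a b, (ev D.T)⁻¹ = θ a * ev D.T * θ b := by
  simp only [Bool.and_eq_true] at hc
  have := h.pat _ (List.mem_of_elem_eq_true hc.2)
  simp only [if_true, evL_append, evL_singleton, h.ti] at this
  refine ⟨(evL evP a)⁻¹, (evL evP b)⁻¹, ?_⟩
  rw [map_inv, map_inv, M.mapW hc.1.1, M.mapW hc.1.2]
  nth_rewrite 2 [← this]
  group

theorem hgen (M : D.Model ev evP θ φ img n) {X : List (List ℕ)}
    (hc : (X.all fun w => w == [D.T] || inR D.m w) = true) :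
    ∀ w ∈ X, evL ev w = ev D.T ∨ ∃ p, evL ev w = θ p := by
  simp only [List.all_eq_true, Bool.or_eq_true, beq_iff_eq] at hc
  intro w hw
  rcases hc w hw with e | e
  · exact Or.inl (by rw [e, evL_singleton])
  · exact Or.inr ⟨_, (M.mapW e).symm⟩

theorem ax_range (hθ : ∀ l, 1 ≤ l → l < D.m → θ (evP l) = ev l) (hc : D.ax.all (inR D.m) = true) :
    ∀ w ∈ D.ax, evL ev w ∈ θ.range := by
  intro w hw
  have h1 := List.all_eq_true.mp hc w hw
  refine ⟨evL evP w, ?_⟩
  rw [map_evL]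
  exact evL_congr fun x hx => hθ x (inR_spec h1 x hx).1 (inR_spec h1 x hx).2

theorem isCoatom (E : List (ℕ × ℕ))
    (hE : ∀ e ∈ E, Cover ((rcStab H (evL ev (D.gw e.1))).comap θ) ⊤ e.2)
    (hU : ∀ x, D.InU ev H θ (E.map Prod.fst) x) (hθ : ∀ p, θ p ∈ H) {N : ℕ} (hN : H.index = N)
    (h1 : 1 < N) (hc : maxChk E N = true) : IsCoatom H := by
  classical
  unfold maxChk at hc
  simp only [Bool.and_eq_true, beq_iff_eq, List.all_eq_true, Bool.or_eq_true, bne_iff_ne] at hc
  refine ⟨fun e => by rw [e, Subgroup.index_top] at hN; omega, fun M hM => ?_⟩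
  let p : ℕ × ℕ → Bool := fun e => decide (evL ev (D.gw e.1) ∈ M)
  have key : ∀ (q : ℕ × ℕ → Bool) (y : G), (∀ e, (evL ev (D.gw e.1) ∈ M ↔ y ∈ M) → q e = true) →
      D.InU ev H θ ((E.filter q).map Prod.fst) y := by
    intro q y hq
    obtain ⟨i, hi, x, hx⟩ := hU y
    obtain ⟨e, he, rfl⟩ := List.mem_map.mp hi
    refine ⟨e.1, List.mem_map_of_mem (List.mem_filter.mpr ⟨he, hq e ?_⟩), x, hx⟩
    have h2 : y * (evL ev (D.gw e.1) * θ x)⁻¹ ∈ M := hM.le hx
    have h3 : θ x ∈ M := hM.le (hθ x)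
    constructor
    · intro h4
      simpa [mul_assoc] using M.mul_mem h2 (M.mul_mem h4 h3)
    · intro h4
      simpa [mul_assoc] using M.mul_mem (M.mul_mem (M.inv_mem h2) h4) (M.inv_mem h3)
  obtain ⟨r1, hr1⟩ := cover_aux (E.filter p) fun e he => hE e (List.mem_of_mem_filter he)
  obtain ⟨r2, hr2⟩ := cover_aux (E.filter fun e => !p e) fun e he =>
    hE e (List.mem_of_mem_filter he)
  have hs := sum_filter_add E p
  have hmul := Subgroup.relIndex_mul_index hM.le
  have h0 : H.relIndex M ≠ 0 := fun e => by rw [e, zero_mul] at hmul; omega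
  have h2 : H.relIndex M ≤ ((E.filter p).map Prod.snd).sum :=
    relIndex_le_of_cover hM.le ⟨r1, fun y hy => hr1 y (key p y fun e he => by simp [p, he, hy])⟩
  obtain ⟨r3, hr3⟩ := cover_of_relIndex h0
  have h3 : Cover H ⊤ (H.relIndex M + ((E.filter fun e => !p e).map Prod.snd).sum) := by
    refine ⟨fun j => if j < H.relIndex M then r3 j else r2 (j - H.relIndex M), fun y _ => ?_⟩
    by_cases hy : y ∈ M
    · obtain ⟨j, hj, hm⟩ := hr3 y hy
      exact ⟨j, by omega, by simp only [if_pos hj]; exact hm⟩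
    · obtain ⟨j, hj, hm⟩ := hr2 y (key _ y fun e he => by simp [p, he, hy])
      refine ⟨H.relIndex M + j, by omega, ?_⟩
      simp only [if_neg (show ¬ H.relIndex M + j < H.relIndex M by omega),
        Nat.add_sub_cancel_left]
      exact hm
  have h4 := h3.index_le.2
  have h5 : ((E.filter p).map Prod.snd).sum = H.relIndex M := by omega
  have h6 := hc.2 (E.filter p) (List.mem_sublists.mpr List.filter_sublist)
  rw [h5] at h6
  rcases h6 with (h6 | h6) | h6
  · exact absurd (Nat.mod_eq_zero_of_dvd ⟨M.index, by omega⟩) h6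
  · exact absurd (Subgroup.relIndex_eq_one.mp h6) hM.not_ge
  · rw [h6, hN] at hmul
    exact Subgroup.index_eq_one.mp (Nat.eq_of_mul_eq_mul_left (by omega) (hmul.trans (mul_one N).symm))

theorem core_free [Finite P] (E : List (ℕ × ℕ)) {i k : ℕ}
    (hE : ∀ e ∈ (i, k) :: E, Cover ((rcStab H (evL ev (D.gw e.1))).comap θ) ⊤ e.2)
    (hU : ∀ x, D.InU ev H θ (((i, k) :: E).map Prod.fst) x) (hH : H ≤ θ.range)
    (hN : H.index = (((i, k) :: E).map Prod.snd).sum) {S : Subgroup P}
    (hS : S ≤ (rcStab H (evL ev (D.gw i))).comap θ) {a : ℕ} (ha : a ≤ Nat.card S)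
    (hP : Nat.card P ≤ k * a) (hfix : S ≤ fixS φ [0]) {bs : List ℕ}
    (hbs : ∀ c ∈ bs, c ∈ orb φ ⊤ 0) (hf : fixS φ bs = ⊥) (N : Subgroup G) [hn : N.Normal]
    (hle : N ≤ H) : N = ⊥ := by
  generalize hR : (rcStab H (evL ev (D.gw i))).comap θ = R at hS
  have h1 : k ≤ R.index := by
    have := (cover (D := D) (ev := ev) (H := H) (θ := θ) ((i, R.index) :: E)
      (List.forall_mem_cons.mpr ⟨hR ▸ cover_of_index Subgroup.index_ne_zero_of_finite le_rfl,
        fun e he => hE e (List.mem_cons_of_mem _ he)⟩) hU).index_le.2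
    rw [hN] at this
    simpa using this
  have h2 : S = R := by
    refine Subgroup.eq_of_le_of_card_ge hS ?_
    have h3 := Subgroup.card_mul_index R
    have h4 : 0 < R.index := Nat.pos_of_ne_zero Subgroup.index_ne_zero_of_finite
    have h5 : Nat.card R * R.index ≤ Nat.card S * R.index := by
      rw [h3, mul_comm]
      exact hP.trans (Nat.mul_le_mul h1 ha)
    exact Nat.le_of_mul_le_mul_right h5 h4
  have h3 : N.comap θ ≤ fixS φ [0] := by
    refine le_trans (fun p hp => ?_) (h2 ▸ hfix)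
    rw [← hR]
    have h4 := hle (hn.conj_mem _ (N.inv_mem hp) (evL ev (D.gw i)))
    show RC H _ _
    unfold RC
    simpa [mul_assoc] using h4
  have h4 := normal_le_fixS h3 hbs
  rw [hf] at h4
  rw [eq_bot_iff]
  intro x hx
  obtain ⟨p, rfl⟩ := hH (hle hx)
  rw [Subgroup.mem_bot.mp (h4 hx), map_one]
  exact Subgroup.one_mem _

end Dce

theorem Oracle.mem_gen {img : ℕ → ℕ → ℕ} {m : ℕ} {bs : List ℕ} (h : Oracle ev img m bs)
    {Ws V T : List (List ℕ)} (hc : (decide (T.length ≤ (V.map (subst Ws)).length) &&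
      (T.zip (V.map (subst Ws))).all fun x => fixB img m bs (x.2 ++ x.1)) = true) :
    ∀ t ∈ T, evL ev t ∈ gen ev Ws := by
  refine h.mem_of_words (fun u hu => ?_) hc
  obtain ⟨v, _, rfl⟩ := List.mem_map.mp hu
  exact evL_subst_mem (fun w hw => evL_mem_gen ev hw) v

theorem rels_of_cyc {inv : ℕ} (hev : Good ev inv) {R T : List (List ℕ)} (hR : Rels ev R)
    (hc : T.all (cycChk inv (relSet inv R)) = true) : Rels ev T :=
  fun r hr => cyc_sound hev hR (List.all_eq_true.mp hc r hr)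

theorem rels_evS_cyc {inv : ℕ} (hev : Good ev inv) {R σ T : List (List ℕ)} (hR : Rels ev R)
    (hc : (T.map (subst σ)).all (cycChk inv (relSet inv R)) = true) : Rels (evS ev σ) T := by
  intro r hr
  rw [evL_subst]
  exact rels_of_cyc hev hR hc _ (List.mem_map_of_mem hr)

/-- Each word of `X` is equal, by a relator, to a word in the letters of `Y` and their inverses. -/
theorem gen_le_of_cyc {inv : ℕ} (hev : Good ev inv) {R X Y W : List (List ℕ)} (hR : Rels ev R)
    (hc : (letChk (Y ++ Y.map (invW inv)) W && X.all fun x => W.any fun w =>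
      cycChk inv (relSet inv R) (invW inv x ++ w)) = true) : gen ev X ≤ gen ev Y := by
  simp only [Bool.and_eq_true, List.all_eq_true, List.any_eq_true] at hc
  refine gen_le fun x hx => ?_
  obtain ⟨w, hw, e⟩ := hc.2 x hx
  have h1 := cyc_sound hev hR e
  rw [evL_append, evL_invW hev, inv_mul_eq_one] at h1
  rw [h1]
  refine gen_le (fun y hy => ?_) (mem_of_letChk hc.1 w hw)
  rcases List.mem_append.mp hy with h2 | h2
  · exact evL_mem_gen ev h2
  · obtain ⟨u, hu, rfl⟩ := List.mem_map.mp h2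
    rw [evL_invW hev]
    exact Subgroup.inv_mem _ (evL_mem_gen ev hu)

theorem rels_app {R T : List (List ℕ)} (h1 : Rels ev R) (h2 : Rels ev T) : Rels ev (R ++ T) :=
  fun r hr => (List.mem_append.mp hr).elim (h1 r) (h2 r)

theorem UB.map {P : Type*} [Group P] {K : Subgroup P} {N : ℕ} (h : UB K N) (θ : P →* G) :
    UB (K.map θ) N := by
  have := h.1
  have hs : Function.Surjective (θ.subgroupMap K) := θ.subgroupMap_surjective K
  exact ⟨Finite.of_surjective _ hs, (Nat.card_le_card_of_surjective _ hs).trans h.2⟩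

theorem ub_of_lb [Finite G] {φ : G →* Equiv.Perm ℕ} {n : ℕ} {bs : List ℕ} {N a : ℕ}
    (h : LBn φ ⊤ n bs N) (h0 : 0 < N) (hG : Nat.card G ≤ N * a) {K : Subgroup G}
    (hK : K ≤ fixS φ bs) : UB K a := by
  refine ⟨inferInstance, (Subgroup.card_le_of_le hK).trans ?_⟩
  have h1 := h.1
  unfold LB at h1
  rw [top_inf_eq, Subgroup.card_top] at h1
  exact Nat.le_of_mul_le_mul_left (h1.trans hG) h0

theorem stab_le [Finite G] {φ : G →* Equiv.Perm ℕ} {n : ℕ} {bs : List ℕ} {N a : ℕ}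
    (h : LBn φ ⊤ n bs N) (h0 : 0 < N) (hG : Nat.card G ≤ N * a) {K : Subgroup G}
    (hK : K ≤ fixS φ bs) (ha : a ≤ Nat.card K) : fixS φ bs ≤ K :=
  (Subgroup.eq_of_le_of_card_ge hK ((ub_of_lb h h0 hG le_rfl).2.trans ha)).ge

theorem IsAct.gen_le_fixS {φ : G →* Equiv.Perm ℕ} {img : ℕ → ℕ → ℕ} {n m : ℕ}
    (h : IsAct φ ev img n m) {bs : List ℕ} {Ws : List (List ℕ)}
    (hc : (ltB n bs && Ws.all (fixB img m bs)) = true) : gen ev Ws ≤ fixS φ bs := by
  rw [Bool.and_eq_true] at hc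
  exact gen_le fun w hw => h.mem_fixS (ltB_spec hc.1) (List.all_eq_true.mp hc.2 w hw)

/-- The order from an upper bound and a divisor. -/
theorem card_of_dvd {N : ℕ} (h : UB (⊤ : Subgroup G) N) (hd : N ∣ Nat.card G) : Nat.card G = N := by
  have := h.top.1
  exact le_antisymm h.top.2 (Nat.le_of_dvd Nat.card_pos hd)

theorem UB.range {P : Type*} [Group P] [Finite P] (θ : P →* G) {N : ℕ} (h : Nat.card P = N) :
    UB θ.range N := by
  rw [MonoidHom.range_eq_map]
  exact UB.map ⟨inferInstance, by rw [Subgroup.card_top, h]⟩ θ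

theorem injective_of_card_range {P : Type*} [Group P] [Finite P] (θ : P →* G)
    (h : Nat.card θ.range = Nat.card P) : Function.Injective θ := by
  have := (θ.rangeRestrict_surjective.bijective_of_nat_card_le h.ge).1
  intro a b e
  exact this (Subtype.ext e)

theorem range_eq_genS {P : Type*} [Group P] {evP : ℕ → P} {θ : P →* G} {σ X : List (List ℕ)}
    (hθ : ∀ l, θ (evP l) = evS ev σ l) (hX : gen evP X = ⊤) :
    θ.range = gen ev (X.map (subst σ)) := by
  rw [MonoidHom.range_eq_map, ← hX, map_gen, ← gen_evS]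
  exact congrArg (gen · X) (funext hθ)

theorem IsAct.mem_orb {φ : G →* Equiv.Perm ℕ} {img : ℕ → ℕ → ℕ} {n m : ℕ} (h : IsAct φ ev img n m)
    (h0 : 0 < n) {bs : List ℕ} {W : List (List ℕ)}
    (hc : (bs.all fun b => W.any fun w => inR m w && Nat.beq (H6.trF img w 0) b) = true) :
    ∀ c ∈ bs, c ∈ orb φ ⊤ 0 := by
  simp only [List.all_eq_true, List.any_eq_true, Bool.and_eq_true, Nat.beq_eq] at hc
  intro c hc'
  obtain ⟨w, _, h1, h2⟩ := hc c hc'
  exact ⟨_, Subgroup.mem_top _, by rw [(h.trF h1 h0).1, h2]⟩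

theorem IsAct.lt_of_gen {φ : G →* Equiv.Perm ℕ} {img : ℕ → ℕ → ℕ} {n m : ℕ}
    (h : IsAct φ ev img n m) (h0 : 0 < n) {X : List (List ℕ)} (hX : gen ev X = ⊤)
    (hc : X.all (inR m) = true) (g : G) : φ g 0 < n := by
  have := gen_preserves (φ := φ) (S := Set.Iio n) (Set.finite_Iio n) (Ws := X) (ev := ev)
    (fun w hw p hp => by
      obtain ⟨h1, h2⟩ := h.trF (List.all_eq_true.mp hc w hw) hp
      rw [h1]; exact h2) g⁻¹ (hX ▸ Subgroup.mem_top _) 0 h0
  simpa using this

end Cfsg.H6
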