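import Cfsg.Agent.H6.DCE3
import Cfsg.Agent.H6.MRep

/-! Small additions for double coset enumerations. -/

set_option autoImplicit false

namespace Cfsg.H6

variable {G : Type*} [Group G] {ev : ℕ → G}

/-- Each word of `X` is equal, by a relator, to the matching word in the letters of `Y`. -/
theorem gen_le_of_zip {inv : ℕ} (hev : Good ev inv) {R X Y W : List (List ℕ)} (hR : Rels ev R)
    (hc : (letChk (Y ++ Y.map (invW inv)) W && decide (X.length ≤ W.length) &&
      (X.zip W).all fun p => cycChk inv (relSet inv R) (invW inv p.1 ++ p.2)) = true) :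
    gen ev X ≤ gen ev Y := by
  simp only [Bool.and_eq_true, List.all_eq_true, decide_eq_true_eq] at hc
  refine gen_le fun x hx => ?_
  obtain ⟨i, hi, rfl⟩ := List.getElem_of_mem hx
  have hi' : i < W.length := by omega
  have h1 := cyc_sound hev hR (hc.2 (X[i], W[i]) (by
    have : i < (X.zip W).length := by simp; omega
    simpa using List.getElem_mem this))
  rw [evL_append, evL_invW hev, inv_mul_eq_one] at h1
  rw [h1]
  refine gen_le (fun y hy => ?_) (mem_of_letChk hc.1.1 _ (List.getElem_mem hi'))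
  rcases List.mem_append.mp hy with h2 | h2
  · exact evL_mem_gen ev h2
  · obtain ⟨u, hu, rfl⟩ := List.mem_map.mp h2
    rw [evL_invW hev]
    exact Subgroup.inv_mem _ (evL_mem_gen ev hu)

/-- A simple group with a nontrivial image gives a divisor. -/
theorem dvd_kq_of_simple {P M : Type*} [Group P] [IsSimpleGroup P] [Monoid M] (θ : P →* G)
    (μ : G →* M) {x : P} (hx : μ (θ x) ≠ 1) : Nat.card P ∣ Nat.card (G ⧸ μ.ker) := by
  refine Subgroup.card_dvd_of_injective ((QuotientGroup.mk' μ.ker).comp θ) ?_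
  rw [← MonoidHom.ker_eq_bot_iff]
  refine (IsSimpleGroup.eq_bot_or_eq_top_of_normal _ inferInstance).resolve_right fun e => hx ?_
  have : x ∈ ((QuotientGroup.mk' μ.ker).comp θ).ker := e ▸ Subgroup.mem_top x
  exact (QuotientGroup.eq_one_iff _).mp this

theorem Par.mat_ne_one {P : Par} {code : ℕ → ℕ} {x i j : ℕ}
    (h : (Nat.blt i P.d && Nat.blt j P.d && !Nat.beq i j &&
      !Nat.beq (P.dgt (code x) i j % P.q) 0) = true) : P.mat code x ≠ 1 := by
  simp only [Bool.and_eq_true, Nat.blt_eq, Bool.not_eq_true', ← Bool.not_eq_true, Nat.beq_eq] at h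
  intro e
  have h1 := congrFun (congrFun e ⟨i, h.1.1.1⟩) ⟨j, h.1.1.2⟩
  rw [Matrix.one_apply_ne (by simpa using h.1.2)] at h1
  exact h.2 (Nat.mod_eq_zero_of_dvd ((ZMod.natCast_eq_zero_iff _ _).mp h1))

end Cfsg.H6
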