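import Cfsg.Agent.H6.DCE4

/-! More on double coset enumerations: further axioms, subgroups, moving letters, spinning. -/

set_option autoImplicit false

namespace Cfsg.H6

variable {G : Type*} [Group G] {ev : ℕ → G} {H : Subgroup G}

namespace Dce

variable {D : Dce} {P : Type*} [Group P] {evP : ℕ → P} {θ : P →* G} {φ : P →* Equiv.Perm ℕ}
  {img : ℕ → ℕ → ℕ} {n : ℕ}

/-- A claim is derived, or it is the given axiom. -/
def ok2 (D : Dce) (a id : ℕ) : Bool := Nat.beq id a || D.ok id

theorem all_valid2 (h : D.Hyp ev H) {a N : ℕ} (ha : D.Valid ev H (D.cl a))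
    (e : ∀ c, 0 ≤ c → c < N → D.ok2 a c = true) : ∀ c < N, D.Valid ev H (D.cl c) := by
  intro c
  induction c using Nat.strong_induction_on with
  | _ c ih =>
    intro hc
    have := e c (Nat.zero_le _) hc
    unfold ok2 at this
    rw [Bool.or_eq_true, Nat.beq_eq] at this
    rcases this with rfl | h1
    · exact ha
    · exact ok_sound h (fun c' h' => ih c' h' (by omega)) h1

theorem valid_of_mem {c : Clm} (hc : (!c.e && D.gw c.j == [] && c.b == []) = true)
    (hm : evL ev (D.gw c.i) ∈ H) : D.Valid ev H c := by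
  simp only [Bool.and_eq_true, Bool.not_eq_true', beq_iff_eq] at hc
  unfold Valid
  rw [hc.1.1, if_neg (by simp), hc.1.2, hc.2]
  simpa [RC, evL_nil] using hm

theorem inU_gen {I : List ℕ} (h0 : ∃ i ∈ I, D.gw i = [])
    (hT : ∀ i ∈ I, ∀ p, D.InU ev H θ I (evL ev (D.gw i) * θ p * ev D.T))
    (hinv : ∃ a b, (ev D.T)⁻¹ = θ a * ev D.T * θ b) {X : List (List ℕ)}
    (hX' : ∀ w ∈ X, evL ev w = ev D.T ∨ ∃ p, evL ev w = θ p) :
    ∀ x ∈ gen ev X, D.InU ev H θ I x := by
  have k1 : ∀ y p, D.InU ev H θ I y → D.InU ev H θ I (y * θ p) := by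
    rintro y p ⟨i, hi, q, hq⟩
    exact ⟨i, hi, q * p, by rw [map_mul, ← mul_assoc]; exact hq.mul _⟩
  have k2 : ∀ y, D.InU ev H θ I y → D.InU ev H θ I (y * ev D.T) := by
    rintro y ⟨i, hi, q, hq⟩
    obtain ⟨j, hj, q', hq'⟩ := hT i hi q
    exact ⟨j, hj, q', (hq.mul _).trans hq'⟩
  have key : ∀ g ∈ gen ev X, ∀ y, D.InU ev H θ I y → D.InU ev H θ I (y * g) := by
    intro g hg
    refine Subgroup.closure_induction'' ?_ ?_ ?_ ?_ hg
    · rintro _ ⟨w, hw, rfl⟩ y hy
      rcases hX' w hw with e | ⟨p, e⟩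
      · rw [e]; exact k2 y hy
      · rw [e]; exact k1 y p hy
    · rintro _ ⟨w, hw, rfl⟩ y hy
      rcases hX' w hw with e | ⟨p, e⟩
      · obtain ⟨a, b, e'⟩ := hinv
        rw [e, e', ← mul_assoc, ← mul_assoc]
        exact k1 _ _ (k2 _ (k1 _ _ hy))
      · rw [e, ← map_inv]; exact k1 y _ hy
    · intro y hy; rwa [mul_one]
    · intro a b _ _ ha hb y hy
      rw [← mul_assoc]
      exact hb _ (ha _ hy)
  intro x hx
  obtain ⟨i, hi, e⟩ := h0
  have := key x hx 1 ⟨i, hi, 1, by rw [e]; simpa [evL_nil] using RC.refl H 1⟩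
  rwa [one_mul] at this

theorem cover_gen (E : List (ℕ × ℕ))
    (hE : ∀ e ∈ E, Cover ((rcStab H (evL ev (D.gw e.1))).comap θ) ⊤ e.2) {A : Subgroup G}
    (hU : ∀ x ∈ A, D.InU ev H θ (E.map Prod.fst) x) : Cover H A (E.map Prod.snd).sum := by
  obtain ⟨r, hr⟩ := cover_aux E hE
  exact ⟨r, fun y hy => hr y (hU y hy)⟩

end Dce

/-! ### Subset sums -/

/-- The mask of the subset sums, where terms above `M` are left out. -/
noncomputable def reach (M : ℕ) (L : List ℕ) : ℕ :=
  @List.rec _ (fun _ => ℕ) (nat_lit 1) (fun s _ B => frc (fun B' =>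
    @Bool.rec (fun _ => ℕ) B' (Nat.lor B' (Nat.shiftLeft B' s)) (Nat.ble s M)) B) L

theorem reach_spec {M : ℕ} {J L : List ℕ} (h : J.Sublist L) (hM : J.sum ≤ M) :
    (reach M L).testBit J.sum = true := by
  have e : ∀ s L, reach M (s :: L) = @Bool.rec (fun _ => ℕ) (reach M L)
      (reach M L ||| reach M L <<< s) (Nat.ble s M) := fun s L =>
    frc_eq (fun B' => @Bool.rec (fun _ => ℕ) B' (B' ||| B' <<< s) (Nat.ble s M)) (reach M L)
  induction h with
  | slnil => exact (show Nat.testBit 1 0 = true by decide)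
  | cons s _ ih =>
    rw [e]
    cases Nat.ble s M
    · exact ih hM
    · show Nat.testBit (_ ||| _) _ = true
      rw [Nat.testBit_or, ih hM, Bool.true_or]
  | cons_cons s _ ih =>
    rw [List.sum_cons] at hM ⊢
    rw [e, Nat.ble_eq_true_of_le (by omega : s ≤ M)]
    show Nat.testBit (_ ||| _) _ = true
    rw [Nat.testBit_or, Nat.testBit_shiftLeft, Nat.add_sub_cancel_left, ih (by omega)]
    simp

theorem dvd_prod_primes {L : List ℕ} (hL : ∀ p ∈ L, p.Prime) {d : ℕ} (h : d ∣ L.prod) :
    d ∈ L.sublists'.map List.prod := by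
  induction L generalizing d with
  | nil => simpa using h
  | cons p L ih =>
    rw [List.prod_cons] at h
    obtain ⟨a, b, ha, hb, rfl⟩ := exists_dvd_and_dvd_of_dvd_mul h
    obtain ⟨J, hJ, rfl⟩ := List.mem_map.mp (ih (fun q hq => hL q (List.mem_cons_of_mem _ hq)) hb)
    rw [List.mem_sublists'] at hJ
    rcases (Nat.dvd_prime (hL p List.mem_cons_self)).mp ha with rfl | rfl
    · exact List.mem_map.mpr ⟨J, List.mem_sublists'.mpr (hJ.cons _), (one_mul _).symm⟩
    · exact List.mem_map.mpr ⟨a :: J, List.mem_sublists'.mpr (hJ.cons_cons _), List.prod_cons⟩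

theorem maxChk_of_reach {E : List (ℕ × ℕ)} {N M : ℕ} {L : List ℕ} (hL : ∀ p ∈ L, p.Prime)
    (hc : ((E.map Prod.snd).sum == N && L.prod == N && frcB (fun B =>
      (L.sublists'.map List.prod).all fun d => d == 1 || d == N ||
        (Nat.ble d M && !B.testBit d)) (reach M (E.map Prod.snd))) = true) :
    maxChk E N = true := by
  rw [frcB_eq] at hc
  unfold maxChk
  simp only [Bool.and_eq_true, beq_iff_eq, List.all_eq_true, Bool.or_eq_true, bne_iff_ne,
    Nat.ble_eq, Bool.not_eq_true'] at hc ⊢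
  refine ⟨hc.1.1, fun J hJ => ?_⟩
  by_cases hd : N % (J.map Prod.snd).sum = 0
  · rcases hc.2 _ (dvd_prod_primes hL (hc.1.2 ▸ Nat.dvd_of_mod_eq_zero hd)) with (h | h) | h
    · exact Or.inl (Or.inr h)
    · exact Or.inr h
    · rw [reach_spec ((List.mem_sublists.mp hJ).map _) h.1] at h
      exact absurd h.2 (by simp)
  · exact Or.inl (Or.inl hd)

/-! ### Moving letters past an element that commutes with a point stabiliser -/

/-- The segments between the letters `T`. -/
def segs (T : ℕ) (u : List ℕ) : List ℕ × List (List ℕ) :=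
  u.foldr (fun x s => if x = T then ([], s.1 :: s.2) else (x :: s.1, s.2)) ([], [])

/-- The value of a list of segments. -/
def evJ (ev : ℕ → G) (T : ℕ) (a : List ℕ) (r : List (List ℕ)) : G :=
  evL ev a * (r.map fun b => ev T * evL ev b).prod

theorem evJ_segs (ev : ℕ → G) (T : ℕ) (u : List ℕ) :
    evJ ev T (segs T u).1 (segs T u).2 = evL ev u := by
  induction u with
  | nil => simp [segs, evJ, evL_nil]
  | cons x u ih =>
    have e : segs T (x :: u) = if x = T then ([], (segs T u).1 :: (segs T u).2)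
      else (x :: (segs T u).1, (segs T u).2) := rfl
    rw [e, evL_cons, ← ih]
    split_ifs with h
    · simp [evJ, evL_nil, h, mul_assoc]
    · simp [evJ, evL_cons, mul_assoc]

def mvL (inv : ℕ) (fx chk : List ℕ → Bool) :
    List (List ℕ) → List (List ℕ) → List ℕ → List ℕ → Bool
  | [], [], a, b => chk (red inv (invW inv b ++ a))
  | u :: us, w :: ws, a, b =>
    fx (red inv (invW inv b ++ a)) && mvL inv fx chk us ws (red inv (invW inv b ++ a) ++ u) w
  | _, _, _, _ => false

theorem mvL_sound {inv T : ℕ} (hev : Good ev inv) {fx chk : List ℕ → Bool}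
    (hf : ∀ w, fx w = true → evL ev w * ev T = ev T * evL ev w)
    (ho : ∀ w, chk w = true → evL ev w = 1) : ∀ (us ws : List (List ℕ)) (a b : List ℕ),
    mvL inv fx chk us ws a b = true → evJ ev T a us = evJ ev T b ws
  | [], [], a, b, h => by
    have := ho _ h
    rw [evL_red hev, evL_append, evL_invW hev, inv_mul_eq_one] at this
    simp [evJ, this]
  | u :: us, w :: ws, a, b, h => by
    rw [mvL, Bool.and_eq_true] at h
    have h1 := hf _ h.1
    have h2 := mvL_sound hev hf ho us ws _ _ h.2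
    unfold evJ at h2 ⊢
    rw [evL_append, evL_red hev, evL_append, evL_invW hev] at h2
    rw [evL_red hev, evL_append, evL_invW hev] at h1
    rw [List.map_cons, List.map_cons, List.prod_cons, List.prod_cons, mul_assoc (ev T),
      mul_assoc (ev T), ← h2]
    simp only [← mul_assoc]
    rw [mul_assoc (evL ev b), mul_assoc (evL ev b), mul_assoc (ev T), ← h1]
    simp only [← mul_assoc, mul_inv_cancel, one_mul]
  | [], _ :: _, _, _, h => by simp [mvL] at h
  | _ :: _, [], _, _, h => by simp [mvL] at h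

def mvChk (inv T : ℕ) (fx chk : List ℕ → Bool) (B : List (List ℕ))
    (e : List ℕ × List ℕ × ℕ) : Bool :=
  mvL inv fx chk (segs T e.1).2 (segs T (invW inv e.2.1 ++ B.getD e.2.2 [] ++ e.2.1)).2
    (segs T e.1).1 (segs T (invW inv e.2.1 ++ B.getD e.2.2 [] ++ e.2.1)).1

/-- Each word is a conjugate of a relator, up to moving letters. -/
theorem rels_of_mv {inv T : ℕ} (hev : Good ev inv) {fx chk : List ℕ → Bool}
    (hf : ∀ w, fx w = true → evL ev w * ev T = ev T * evL ev w)
    (ho : ∀ w, chk w = true → evL ev w = 1) {B : List (List ℕ)} (hB : Rels ev B)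
    {U : List (List ℕ)} {A : List (List ℕ × ℕ)}
    (hc : (decide (U.length ≤ A.length) && (U.zip A).all (mvChk inv T fx chk B)) = true) :
    Rels ev U := by
  simp only [Bool.and_eq_true, decide_eq_true_eq, List.all_eq_true] at hc
  intro u hu
  obtain ⟨i, hi, rfl⟩ := List.getElem_of_mem hu
  have hi' : i < A.length := by omega
  have h1 := mvL_sound hev hf ho _ _ _ _ (hc.2 (U[i], A[i]) (by
    have : i < (U.zip A).length := by simp; omega
    simpa using List.getElem_mem this))
  rw [evJ_segs, evJ_segs, evL_append, evL_append, evL_invW hev] at h1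
  have h2 : evL ev (B.getD A[i].2 []) = 1 := by
    by_cases hk : A[i].2 < B.length
    · rw [List.getD_eq_getElem _ _ hk]
      exact hB _ (List.getElem_mem hk)
    · rw [List.getD_eq_default _ _ (by omega)]
      rfl
  rw [h1, h2]
  simp

theorem comm_of_stab {P : Type*} [Group P] {evP : ℕ → P} {θ : P →* G} {φ : P →* Equiv.Perm ℕ}
    {img : ℕ → ℕ → ℕ} {n m : ℕ} (hθ : ∀ l, 1 ≤ l → l < m → θ (evP l) = ev l)
    (hφ : IsAct φ evP img n m) (h0 : 0 < n) {K : List (List ℕ)} (hs : fixS φ [0] ≤ gen evP K)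
    (hK : K.all (inR m) = true) {t : G} (hc : ∀ w ∈ K, evL ev w * t = t * evL ev w)
    (w : List ℕ) (hw : fixB img m [0] w = true) : evL ev w * t = t * evL ev w := by
  have k : ∀ u, inR m u = true → θ (evL evP u) = evL ev u := fun u hu => by
    rw [map_evL]
    exact evL_congr fun x hx => hθ x (inR_spec hu x hx).1 (inR_spec hu x hx).2
  have h1 : gen evP K ≤ (Subgroup.centralizer {t}).comap θ := gen_le fun u hu => by
    rw [Subgroup.mem_comap, Subgroup.mem_centralizer_singleton_iff,
      k u (List.all_eq_true.mp hK u hu)]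
    exact hc u hu
  have h2 := h1 (hs (hφ.mem_fixS (by simpa using h0) hw))
  unfold fixB at hw
  rw [Bool.and_eq_true] at hw
  rwa [Subgroup.mem_comap, Subgroup.mem_centralizer_singleton_iff, k w hw.1] at h2

theorem comm_of_cyc {inv T : ℕ} (hev : Good ev inv) {R K : List (List ℕ)} (hR : Rels ev R)
    (hc : (K.all fun w => cycChk inv (relSet inv R) (w ++ [T] ++ invW inv ([T] ++ w))) = true) :
    ∀ w ∈ K, evL ev w * ev T = ev T * evL ev w := by
  intro w hw
  have := cyc_sound hev hR (List.all_eq_true.mp hc w hw)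
  rwa [evL_append, evL_invW hev, mul_inv_eq_one, evL_append, evL_append, evL_singleton] at this

/-! ### Spinning a fixed vector -/

open Matrix

namespace Par

variable {P : Par} {code : ℕ → ℕ}

noncomputable def rowEq (P : Par) (A p i : ℕ) : Bool :=
  allR (fun j => Nat.beq (P.dgt A p j) (if j = i then 1 else 0)) 0 P.d

theorem rowEq_spec {A r : ℕ} {p : Fin r} {i : Fin P.d} (h : P.rowEq A p i = true) :
    P.dec r A p = Pi.single i 1 := by
  ext j
  have := Nat.eq_of_beq_eq_true (allR_range h (Nat.zero_add _) j (Nat.zero_le _) j.2)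
  unfold dec
  rw [this, Pi.single_apply]
  simp [Fin.ext_iff]

/-- The stabiliser of a basis vector. -/
def rowStab {ι K : Type*} [CommRing K] [Fintype ι] [DecidableEq ι] (μ : G →* Matrix ι ι K)
    (i : ι) : Subgroup G where
  carrier := {g | Pi.single i 1 ᵥ* μ g = Pi.single i 1}
  one_mem' := by
    show _ = _
    rw [map_one, vecMul_one]
  mul_mem' := fun {a b} ha hb => by
    have h1 : Pi.single i 1 ᵥ* μ a = Pi.single i 1 := ha
    show _ = _
    rw [map_mul, ← vecMul_vecMul, h1]
    exact hb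
  inv_mem' := fun {a} ha => by
    have h1 : Pi.single i 1 ᵥ* μ a = Pi.single i 1 := ha
    show _ = _
    nth_rewrite 1 [← h1]
    rw [vecMul_vecMul, ← map_mul]
    simp

variable {μ : G →* Matrix (Fin P.d) (Fin P.d) (ZMod P.q)} {m : ℕ}

theorem gen_le_rowStab (h : P.ok = true) (hd : 0 < P.d)
    (hμ : ∀ x, 1 ≤ x → x < m → μ (ev x) = P.mat code x) {Ws : List (List ℕ)}
    (hc : (P.rowEq 1 0 0 && Ws.all fun w => inR m w && Nat.beq (trF (P.img 1 code) w 1) 1) = true) :
    gen ev Ws ≤ rowStab μ ⟨0, hd⟩ := by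
  simp only [Bool.and_eq_true, List.all_eq_true, Nat.beq_eq] at hc
  refine gen_le fun w hw => ?_
  have h1 := dec_tr (code := code) h 1 w 1
  rw [(hc.2 w hw).2, ← map_evL_mpr hμ (hc.2 w hw).1] at h1
  have h2 := rowEq_spec (r := 1) (p := 0) (i := ⟨0, hd⟩) hc.1
  have h3 := congrFun h1 0
  rw [mul_apply_eq_vecMul, h2] at h3
  exact h3.symm

theorem spin (hd : 0 < P.d) (hμ : ∀ x, 1 ≤ x → x < m → μ (ev x) = P.mat code x)
    {par let_ : ℕ → ℕ} (hc : allR (fun i => Nat.beq i 0 || (Nat.blt (par i) i &&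
      inR m [let_ i] && P.rowEq (code (let_ i)) (par i) i)) 0 P.d = true)
    (hi : Function.Injective μ) (N : Subgroup G) [hN : N.Normal] (h0 : N ≤ rowStab μ ⟨0, hd⟩) :
    N = ⊥ := by
  have key : ∀ i (hi : i < P.d), N ≤ rowStab μ ⟨i, hi⟩ := by
    intro i
    induction i using Nat.strong_induction_on with
    | _ i ih =>
      intro hi x hx
      have := allR_range hc (Nat.zero_add _) i (Nat.zero_le _) hi
      simp only [Bool.or_eq_true, Bool.and_eq_true, Nat.beq_eq, Nat.blt_eq] at this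
      rcases this with rfl | ⟨⟨h1, h2⟩, h3⟩
      · exact h0 hx
      · have h4 := inR_spec h2 _ List.mem_cons_self
        have h5 : Pi.single ⟨par i, h1.trans hi⟩ 1 ᵥ* μ (ev (let_ i)) = Pi.single ⟨i, hi⟩ 1 := by
          rw [hμ _ h4.1 h4.2, single_one_vecMul]
          exact rowEq_spec (p := ⟨par i, h1.trans hi⟩) (i := ⟨i, hi⟩) h3
        have h6 : Pi.single _ 1 ᵥ* μ _ = Pi.single _ 1 :=
          ih _ h1 (h1.trans hi) (hN.conj_mem x hx (ev (let_ i)))
        show _ = _
        rw [← h5, vecMul_vecMul, ← map_mul]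
        nth_rewrite 2 [← h6]
        rw [vecMul_vecMul, ← map_mul]
        simp
  rw [eq_bot_iff]
  intro x hx
  apply hi
  rw [map_one]
  ext i j
  have h1 : Pi.single i 1 ᵥ* μ x = Pi.single i 1 := key i i.2 hx
  rw [single_one_vecMul] at h1
  have h2 := congrFun h1 j
  rw [Matrix.row] at h2
  rw [h2, one_apply, Pi.single_apply]
  simp [eq_comm]

end Par

end Cfsg.H6
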