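import Cfsg.Agent.H6.Mat

/-! The field with four elements, on `Fin 4`: addition is exclusive or, `2` is a cube root of unity. -/

set_option autoImplicit false

namespace Cfsg.H6

/-- The field with four elements. -/
def F4 : Type := Fin 4

namespace F4

instance instDecEq : DecidableEq F4 := inferInstanceAs (DecidableEq (Fin 4))
instance instFintype : Fintype F4 := inferInstanceAs (Fintype (Fin 4))

/-- The element with a given code. -/
def mk (n : ℕ) : F4 := (⟨n % 4, Nat.mod_lt _ (by norm_num)⟩ : Fin 4)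
def val (a : F4) : ℕ := Fin.val a

instance instZero : Zero F4 := ⟨mk 0⟩
instance instOne : One F4 := ⟨mk 1⟩
instance instAdd : Add F4 := ⟨fun a b => mk (Nat.xor a.val b.val)⟩
instance instNeg : Neg F4 := ⟨fun a => a⟩
instance instMul : Mul F4 :=
  ⟨fun a b => mk (Nat.shiftRight 0x9c78e400 (Nat.add (Nat.mul 8 a.val) (Nat.mul 2 b.val)))⟩
instance instInv : _root_.Inv F4 := ⟨fun a => a * a⟩

instance instField : Field F4 :=
  Field.ofMinimalAxioms F4 (by decide +kernel) (by decide +kernel) (by decide +kernel)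
    (by decide +kernel) (by decide +kernel) (by decide +kernel) (by decide +kernel)
    (by decide +kernel) (by decide +kernel) ⟨0, 1, by decide +kernel⟩

theorem card : Fintype.card F4 = 4 := rfl

theorem mk_xor (a b : ℕ) : mk (a ^^^ b) = mk a + mk b := by
  apply Fin.ext
  show (a ^^^ b) % 4 = (a % 4 ^^^ b % 4) % 4
  have h : (a ^^^ b) % 4 = a % 4 ^^^ b % 4 := Nat.xor_mod_two_pow (a := a) (b := b) (n := 2)
  rw [← h, Nat.mod_mod]

theorem add_self (a : F4) : a + a = 0 := by revert a; decide +kernel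

theorem sq_add (a b : F4) : (a + b) ^ 2 = a ^ 2 + b ^ 2 := by revert a b; decide +kernel

theorem eq_one_of_sq (a : F4) (h : a * a = 1) : a = 1 := by revert a; decide +kernel

end F4

variable {ι : Type*} [Fintype ι] [DecidableEq ι]

/-- Decoding of a vector over `F4`. -/
def dec4 (pos : ι → ℕ) (p : ℕ) (i : ι) : F4 := F4.mk (Nat.shiftRight p (Nat.mul 2 (pos i)))

omit [Fintype ι] [DecidableEq ι] in
theorem dec4_xor (pos : ι → ℕ) (a b : ℕ) : dec4 pos (a ^^^ b) = dec4 pos a + dec4 pos b := by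
  ext i
  show F4.mk ((a ^^^ b) >>> (2 * pos i)) = _
  rw [Nat.shiftRight_xor_distrib, F4.mk_xor]
  rfl

omit [Fintype ι] [DecidableEq ι] in
theorem dec4_mod {pos : ι → ℕ} {d : ℕ} (h : ∀ i, pos i < d) (p : ℕ) :
    dec4 pos (p % 2 ^ (2 * d)) = dec4 pos p := by
  ext i
  apply Fin.ext
  show (p % 2 ^ (2 * d)) >>> (2 * pos i) % 2 ^ 2 = p >>> (2 * pos i) % 2 ^ 2
  apply Nat.eq_of_testBit_eq
  intro k
  simp only [Nat.testBit_mod_two_pow, Nat.testBit_shiftRight]
  have := h i
  by_cases hk : k < 2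
  · simp [hk, show 2 * pos i + k < 2 * d by omega]
  · simp [hk]

/-- The matrix with coded rows; the codes are listed for the vectors `2 ^ k`. -/
def mat4 (pos : ι → ℕ) (rw : ℕ → ℕ) : Matrix ι ι F4 := Matrix.of fun i => dec4 pos (rw (2 * pos i))

omit [DecidableEq ι] in
theorem mact4 {pos : ι → ℕ} {d m : ℕ} (h : ∀ i, pos i < d) {rw : ℕ → ℕ → ℕ}
    {A : ℕ → Matrix ι ι F4}
    (hrow : ∀ x, 1 ≤ x → x < m → ∀ k < 2 * d, dec4 pos (rw x k) = Matrix.vecMul (dec4 pos (2 ^ k)) (A x)) :
    MAct A (dec4 pos) (fun x p => xv (rw x) p (2 * d)) m :=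
  mact_xv (dec4_xor pos) (dec4_mod h) hrow

theorem det_eq_one_of_sq {A : Matrix ι ι F4} (h : A * A = 1) : A.det = 1 := by
  apply F4.eq_one_of_sq
  rw [← Matrix.det_mul, h, Matrix.det_one]

end Cfsg.H6
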