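import Cfsg.Agent.H6.Leech2
import Cfsg.Agent.H6.Ab
import Cfsg.Agent.H6.HN.Main

set_option autoImplicit false
set_option maxRecDepth 100000
set_option Elab.async false

namespace Cfsg.H6.HS

open Cfsg.H6.Leech Cfsg.Spor

noncomputable def A : ℕ → ℕ := nthN [0x0, 0x7210852908429085210852148421064194a420ca3214a429464190a51948428c64214a320ca4294a4190652948428ca420ca520c64194a4290a5194852108319084190832108321c84210a52108319084190872108320c84210a41946420ca520ca428ca4290a329484294a4214a520ca419464190a328c8418ca4214a321464294a4290a328c852108319084190832108720c84210a428c6420c65214a429464290a528c8429464214a3214a418ca4290a518c852108339084190832108320c84210a4294642146521464294a4190a319484294a420ca52146428ca41906528c84194a42146520ca4294a42906518c852108319084390832108320c84210a418ca421465214a418ca4190a5294852108719084190832108320c84210a428ca4214a5214a428c642906319484294a420c63214a4194a4290632948419464214a521464194642906529484294a42146320c6428c64290a5294832108529084290852108521484210e, 0x82108421084210842108421084210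8421088210842108421084210842108421084210842108421084220842108421084211042108421084210842108421084210842108421084410842108421084210842108421088210842108421084210842108422084210842108421084210842108421084211042108421084210842108421104210842108421084210842108441084210842108421084210842108821084210842108421084210842208421084210842108421084210842110421084210842108422084210842108421084210842108421084220842108421084210842108421084210844108421084210842108421084410842108421084210842108441084210842108421084210842108421084210882108421084210842108421084210842108421084210882108421084210842108421084210844108421084210842108421084210842208421104210842108421084210842108421084210842108421084210842110, 0x821084210842108421084210842108421084210842108421084410842108421084210842108441084210842108421084210842108421084210842208441084210842108421084210842108421084210842108421088210842108421084210842108422084210842108421104210842108421084210842108421084210842108421084220842108421084210842108421104210842108421084210842110421084210842108421084210842108821084210842108421084210842208421084210842108421084210844108421084210842108421084220842108421084210842108421084210882108421084210842108421084410842108421084210842108421088210842108421084210842108422084210842108421084210842108421084211042108421084210842108421084210842108421084211042108421084210842108421084210882108421084210842108421084210844108421084210842108421084210842110,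 0x421084210842108421084210842110421084210842108421084211042108421084220842108421084210842108421104210842108421084210842108421084210842108421084220842108421084210842108821084210842108422084210842108421084210842108421084211042108421084210842108421084210842108422084210842108421084210842108421088210842108421084210842208421084210842108421084210842110421084210842108421084410842108421084210842108421084210842108441084210842108421084210882108421084210842108421084210842108421104210842108421084210844108421084210842108421084210842108421084210882108421088210842108421084210842108441084210842108421084210842108421084210842108421084410842108421084210842108421084210844108421084210842108421084210842208821084210842108421084210842108]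

noncomputable def tt : ℕ → ℕ := nthN [0x0, 0x32e450b4c861edde1105025a584e8b4511395349548695b33d4a048bea1c295d75a08695dd3d599b1bc28650725dc008d071227b464e3426ec4706b13c812ec0c44cfb09065566430a2ee18be1e6b524d8fd31d809bf476ceb0, 0x32e431813be2f7641f3d42ad866895a66d320b18f51aad8b6e8da552ce2932ea4c34766fd350d0d409af1024653ef61b95b1d2c55e23b60ba11b6f38ebf5ef5c394b190ac94185012c1c4940a2060b1a3888f244ca90080c100, 0x32e45aad8627ac6f2f9521f5854bacce78b24da6489bd28c5e0dd9e6a5a980968b84180f365108e1d474e6baaece8273e9a618ab1e23bc350db47f58cb5b96d0c548e61e3be4c2900c1c484102858d185488e24587830404a00, 0x326577890a33edde4cb65cd258559fc5a6c555058e26dc7c894a08ebea44875d732ab2deddc6e99cebcd9ab473029308d056cf574649e326ec24c12b0c8bea0e9c4d65398b4108940a2ca90121c68c24287881c0c9960c08080]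

noncomputable def img (x p : ℕ) : ℕ := Nat.land (Nat.shiftRight (tt x) (Nat.mul 7 p)) 127

theorem a1 : autChk (A 1) = true := by decide +kernel

theorem b1 : ∀ p < 102, img 1 p < 102 ∧ actChk (A 1) (Z p) (Z (img 1 p)) = true := by
  decide +kernel

theorem a2 : autChk (A 2) = true := by decide +kernel

theorem b2 : ∀ p < 102, img 2 p < 102 ∧ actChk (A 2) (Z p) (Z (img 2 p)) = true := by
  decide +kernel

theorem a3 : autChk (A 3) = true := by decide +kernel

theorem b3 : ∀ p < 102, img 3 p < 102 ∧ actChk (A 3) (Z p) (Z (img 3 p)) = true := by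
  decide +kernel

theorem a4 : autChk (A 4) = true := by decide +kernel

theorem b4 : ∀ p < 102, img 4 p < 102 ∧ actChk (A 4) (Z p) (Z (img 4 p)) = true := by
  decide +kernel

/-- The letters as automorphisms of the lattice. -/
noncomputable def ev (x : ℕ) : Equiv.Perm leechLattice := au (A x)

theorem lab : Lab (MonoidHom.id _) ev zv img 102 5 :=
  Leech.lab (fun x h1 h2 => by interval_cases x; exacts [a1, a2, a3, a4]) hZ
    (fun x h1 h2 => by interval_cases x; exacts [b1, b2, b3, b4]) Z_inj

theorem mem0 (w : List ℕ) : evL ev w ∈ Co0 := evL_mem_of_letters fun _ _ => au_mem _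

theorem fix {bs w : List ℕ} (h : fixB img 5 bs w = true) {p : ℕ} (hp : p ∈ bs) (h2 : p < 102) :
    (evL ev w)⁻¹ (zv p) = zv p := by
  unfold fixB at h
  simp only [Bool.and_eq_true, List.all_eq_true, Nat.beq_eq] at h
  have := (lab.tr h.1 h2).1
  rwa [h.2 p hp] at this

theorem mem {w : List ℕ} (h : fixB img 5 [100, 101] w = true) : evL ev w ∈ HS :=
  (Subgroup.inv_mem_iff _).mp (hs_iff.mpr ⟨inv_mem (mem0 w), fix h (by simp) (by norm_num),
    fix h (by simp) (by norm_num)⟩)

theorem ora : Oracle ev img 5 (100 :: 101 :: List.range 23) := fun w h =>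
  inv_eq_one.mp (eq_one (hs_iff.mpr ⟨inv_mem (mem0 w), fix h (by simp) (by norm_num),
    fix h (by simp) (by norm_num)⟩) fun p hp => fix h (by simp [hp]) (by omega))

theorem v4 : dvChk img 102 5 1 [[1,4,3,4,1,3,1,3,4,2,4,4,2,4,2,4,2,4,2,4,3,4,4,3,4]] [] [1,8,13] (unp 2 (nat_lit 0x80000000100)) = true := by
  decide +kernel

theorem v3 : dvChk img 102 5 25 [[3,4,3,4,2,2,4,3,4,3,3,3], [4,3,4,2,2,2,4,3,4,2,4,2,4,2], [3,3,4,3,4,2,4,2,4,2,2,4,3,4,4,3,4]] [[1,4,3,4,1,3,1,3,4,2,4,4,2,4,2,4,2,4,2,4,3,4,4,3,4]] [25,28,30,31,34,35,38,41,42,43,45,49,51,53,54,58,65,67,69,71,72,73,75,76,80,81,84,85,88,90,91,93] (unp 31 (nat_lit 0x55000000410100004100000035020000540000004501000045000000330200002200000026010000260000002a020000290000001c0100001c0000001f02000051000000430100005b0000001e0200001e0000001f01000036000000230200005d00000048010000500000001902000023000000190100001900)) = true := by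
  decide +kernel

theorem v2 : dvChk img 102 5 24 [[3,4,2,4,4,2,4,4,2,4,2], [3,4,3,4,3,4,3,4,4,3,4], [2,4,3,4,2,4,2,4,3,3], [3,3,4,3,4,4,3,4,3,3]] [[3,4,3,4,2,2,4,3,4,3,3,3], [4,3,4,2,2,2,4,3,4,2,4,2,4,2], [3,3,4,3,4,2,4,2,4,2,2,4,3,4,4,3,4], [1,4,3,4,1,3,1,3,4,2,4,4,2,4,2,4,2,4,2,4,3,4,4,3,4]] [24,25,26,27,28,30,31,32,33,34,35,36,37,38,39,41,42,43,44,45,47,48,49,51,53,54,55,56,58,59,60,61,62,63,64,65,66,67,69,70,71,72,73,75,76,79,80,81,82,83,84,85,86,88,90,91,93,96,98,99] (unp 59 (nat_lit 0x580300003103000053020000330300002f0300002d0200001e0300001e0200002302000050030000220300004f0300003f0200004f02000041020000460300004602000051030000510200004b020000450200001b0200001903000047030000470200003d0300002b030000200200002b0200002a0200001f0300001f0200003b0300003b0200003d020000180000001c030000520200006002000037030000360200005a03000042030000420200005603000048020000260300002602000043030000430200003c020000380300003503000035020000380200003003000030020000180300001802)) = true := by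
  decide +kernel

theorem v1 : dvChk img 102 5 23 [[2], [4,2,4]] [[3,4,2,4,4,2,4,4,2,4,2], [3,4,3,4,3,4,3,4,4,3,4], [2,4,3,4,2,4,2,4,3,3], [3,3,4,3,4,4,3,4,3,3], [3,4,3,4,2,2,4,3,4,3,3,3], [4,3,4,2,2,2,4,3,4,2,4,2,4,2], [3,3,4,3,4,2,4,2,4,2,2,4,3,4,4,3,4], [1,4,3,4,1,3,1,3,4,2,4,4,2,4,2,4,2,4,2,4,3,4,4,3,4]] [23,24,25,26,27,28,29,30,31,32,33,34,35,36,37,38,39,40,41,42,43,44,45,46,47,48,49,50,51,52,53,54,55,56,57,58,59,60,61,62,63,64,65,66,67,68,69,70,71,72,73,74,75,76,77,78,79,80,81,82,83,84,85,86,87,88,89,90,91,92,93,94,95,96,97,98,99] (unp 76 (nat_lit 0x340000003a00000042000000250000001b00000045010000510000004900000044010000530000003c00000037010000350000004d00000037000000230000003f0000001a010000460000001a000000390000001c0000004500000038010000610000003000000019010000380000001d00000021000000190000004300000032010000620000002b00000055000000590000003e0000002f0100001f0000005c00000031010000290000002e0100003b0000002d01000026010000540000004e00000022000000560000002e0000002a01000033000000570000002a000000470000004f000000180100004c000000520000002c00000018000000630000001e010000480000005d0000005e0000003100000050000000170100003d0000001e0000005b0000004a0000001700))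 = true := by
  decide +kernel

theorem v0 : dvChk img 102 5 0 [[1], [2]] [[2], [4,2,4], [3,4,2,4,4,2,4,4,2,4,2], [3,4,3,4,3,4,3,4,4,3,4], [2,4,3,4,2,4,2,4,3,3], [3,3,4,3,4,4,3,4,3,3], [3,4,3,4,2,2,4,3,4,3,3,3], [4,3,4,2,2,2,4,3,4,2,4,2,4,2], [3,3,4,3,4,2,4,2,4,2,2,4,3,4,4,3,4], [1,4,3,4,1,3,1,3,4,2,4,4,2,4,2,4,2,4,2,4,3,4,4,3,4]] [0,1,2,3,4,5,6,7,8,9,10,11,12,13,14,15,16,17,18,19,20,21,22,23,24,25,26,27,28,29,30,31,32,33,34,35,36,37,38,39,40,41,42,43,44,45,46,47,48,49,50,51,52,53,54,55,56,57,58,59,60,61,62,63,64,65,66,67,68,69,70,71,72,73,74,75,76,77,78,79,80,81,82,83,84,85,86,87,88,89,90,91,92,93,94,95,96,97,98,99] (unp 99 (nat_lit 0x9000000110100005c0000003b0100001e0000005b0100002b0000005501000047010000340000003a01000042010000420000002e0100002e0000002601000025010000250000001b0100001b00000024010000470000004f01000049010000460100002f0100004600000029000000440100003e0100001a0100001a0000003901000032010000170100003200000033010000390000001c0100001c00000045010000540000004e0100002d0100002d0000004c0100003c0000003601000020000000350100000600000016010000160000000a00000015010000150000001301000005010000050000000f0100000f00000008010000080000000e01000007000000120100000b0000000c0100000c0000000d0100004d00000040000000380100003800000037010000370000002c010000220100002c000000230100001d01000018010000140000001001000010000000040100000400000003010000030000000201000002000000010100001d00000021010000210000001901000061000000300100000000))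 = true := by
  decide +kernel

def Ws : List (List ℕ) := [[1], [2], [2], [4,2,4], [3,4,2,4,4,2,4,4,2,4,2], [3,4,3,4,3,4,3,4,4,3,4], [2,4,3,4,2,4,2,4,3,3], [3,3,4,3,4,4,3,4,3,3], [3,4,3,4,2,2,4,3,4,3,3,3], [4,3,4,2,2,2,4,3,4,2,4,2,4,2], [3,3,4,3,4,2,4,2,4,2,2,4,3,4,4,3,4], [1,4,3,4,1,3,1,3,4,2,4,4,2,4,2,4,2,4,2,4,3,4,4,3,4]]

theorem dv : 44352000 ∣ Nat.card (gen ev Ws) := Dvd.dvd.trans (by decide +kernel) (lab.dvd v0 (lab.dvd v1 (lab.dvd v2 (lab.dvd v3 (lab.dvd v4 (one_dvd _))))))

theorem gen_eq : gen ev Ws = HS ∧ Nat.card HS = 44352000 := by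
  have := card_HS.1
  have h1 : gen ev Ws ≤ HS := gen_le fun w hw =>
    mem (List.all_eq_true.mp (by decide +kernel : Ws.all (fixB img 5 [100, 101]) = true) w hw)
  have : Finite (gen ev Ws) := Finite.of_injective _ (Subgroup.inclusion_injective h1)
  have h2 := Nat.le_of_dvd Nat.card_pos dv
  have h3 := Subgroup.eq_of_le_of_card_ge h1 (card_HS.2.trans h2)
  exact ⟨h3, le_antisymm card_HS.2 (h3 ▸ h2)⟩

theorem center : Subgroup.center HS = ⊥ := by
  rw [eq_bot_iff]
  intro c hc
  have k : ∀ w p, fixB img 5 [100, 101] w = true → p < 102 →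
      (evL ev w)⁻¹ (c.1 (zv p)) = c.1 (zv (trF img w p)) := fun w p h hp => by
    have h1 := congrArg (fun g : HS => g.1 (zv p))
      (Subgroup.mem_center_iff.mp hc ⟨_, inv_mem (mem h)⟩)
    unfold fixB at h
    rw [Bool.and_eq_true] at h
    rw [← (lab.tr h.1 hp).1]
    exact h1
  obtain ⟨q, hq, e⟩ := hs_maps c.2 (p := 0) (by norm_num)
  have h1 : ∀ w ∈ ([[2], [4,2,4], [3,4,2,4,4,2,4,4,2,4,2], [3,4,3,4,3,4,3,4,4,3,4], [2,4,3,4,2,4,2,4,3,3], [3,3,4,3,4,4,3,4,3,3]] : List (List ℕ)), (fixB img 5 [100, 101] w && inR 5 w &&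
      Nat.beq (trF img w 0) 0) = true := by decide +kernel
  have h2 : ∀ q < 100, (∀ w ∈ ([[2], [4,2,4], [3,4,2,4,4,2,4,4,2,4,2], [3,4,3,4,3,4,3,4,4,3,4], [2,4,3,4,2,4,2,4,3,3], [3,3,4,3,4,4,3,4,3,3]] : List (List ℕ)), trF img w q = q) → q = 0 := by decide +kernel
  have h3 := h2 q hq fun w hw => by
    have a := h1 w hw
    simp only [Bool.and_eq_true, Nat.beq_eq] at a
    have b := k w 0 a.1.1 (by norm_num)
    obtain ⟨c1, c2⟩ := lab.tr a.1.2 (p := q) (by omega)
    rw [a.2, e] at b
    exact lab.inj _ c2 _ (by omega) (c1.symm.trans b)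
  rw [h3] at e
  have h4 : ∀ p < 23, ∃ w ∈ ([[], [1,2,4,2,4,1], [1,2,4,2,4,1,2], [1,2,4,2,4,1,2,2], [1,3,4,3,4,1,3,3], [1,2,4,2,4,1,2,2,4,2,4], [1,2,4,2,4,1,2,4,2,4], [1,2,4,2,4,2,1,4,2,4,1,4,2,4,4,2,4], [1,3,4,3,4,3,1,4,3,4,1,4,3,4], [1,3,4,3,4,3,1,4,3,4,1], [1,2,4,2,4,2,1,4,2,4,1,4,2,4], [1,2,4,2,4,2,1,2,4,2,4,1,3], [1,3,4,3,4,3,1,3,4,3,4,1], [1,2,4,2,4,2,1,2,4,2,4,1], [1,2,4,2,4,2,1,4,2,4,1,4,2,4,2], [1,3,4,3,4,4,3,4,1,3,1], [1,3,4,3,4,1,3], [1,2,4,2,4,2,1,4,2,4,1], [1,2,4,2,4,2,1,2,4,2,4,1,4,3,4], [1,2,4,2,4,1,2,4,2,4,2], [1,3,4,3,4,1], [1,2,4,2,4,4,2,4,1,2,1], [1,3,4,3,4,1,3,4,3,4]] : List (List ℕ)), (fixB img 5 [100, 101] w && inR 5 w &&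
      Nat.beq (trF img w 0) p) = true := by decide +kernel
  refine Subtype.ext (eq_one c.2 fun p hp => ?_)
  obtain ⟨w, _, a⟩ := h4 p hp
  simp only [Bool.and_eq_true, Nat.beq_eq] at a
  have b := k w 0 a.1.1 (by norm_num)
  have c1 := (lab.tr a.1.2 (p := 0) (by norm_num)).1
  rw [e, a.2] at b
  rw [a.2] at c1
  exact b.symm.trans c1

def sg : List (List ℕ) := [[], [1], [1], [2], [3], [4], [1,2,1], [1,3,1]]

theorem lift : ∃ ψ : HN.H.Grp →* Equiv.Perm leechLattice, ∀ l, ψ (HN.H.ev l) = evS ev sg l :=
  HN.H.lift (ora.good_evS (by decide +kernel)) (ora.rels_evS (by decide +kernel))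

/-- The action on the lattice. -/
noncomputable def ψ : HN.H.Grp →* Equiv.Perm leechLattice := lift.choose

theorem hψ (w : List ℕ) : ψ (evL HN.H.ev w) = evL ev (subst sg w) := by
  rw [map_evL, ← evL_subst]
  exact evL_congr fun x _ => lift.choose_spec x

def sK : List (List ℕ) := [[], [1], [2], [3], [4], [5,3,5], [5,4,5]]

/-- The subgroup of index two. -/
def K : Subgroup HN.H.Grp := gen HN.H.ev sK

theorem map_K : K.map ψ = HS := by
  apply le_antisymm
  · rw [Subgroup.map_le_iff_le_comap]
    refine gen_le fun w hw => ?_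
    rw [Subgroup.mem_comap, hψ]
    exact mem (List.all_eq_true.mp (by decide +kernel :
      sK.all (fun w => fixB img 5 [100, 101] (subst sg w)) = true) w hw)
  · rw [← gen_eq.1, show Ws = List.map (fun v => subst sg (subst sK v)) [[1], [3], [3], [5], [4,5,5,5,3], [4,6,4,6,6], [3,6,3,5,4,4], [4,4,6,6,4,4], [4,6,3,3,6,4,4,4], [6,3,3,3,6,3,5,3], [4,4,6,3,5,3,3,6,6], [1,6,1,4,1,4,5,5,3,5,3,6,6]] by decide +kernel]
    refine gen_le fun w hw => ?_
    obtain ⟨v, _, rfl⟩ := List.mem_map.mp hw
    exact ⟨_, evL_subst_mem (fun w hw => evL_mem_gen _ hw) v, hψ _⟩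

theorem K_ne : K ≠ ⊤ := by
  intro h
  have h1 : ψ (evL HN.H.ev [5]) ∈ HS := map_K ▸ ⟨_, h ▸ Subgroup.mem_top _, rfl⟩
  rw [hψ] at h1
  have h2 := (hs_iff.mp (inv_mem h1)).2.1
  have h3 := lab.tr (w := subst sg [5]) (by decide +kernel) (p := 100) (by norm_num)
  exact absurd (lab.inj _ h3.2 _ (by norm_num) (h3.1.symm.trans h2)) (by decide +kernel)

theorem hK : ∀ l, evS HN.H.ev sK l ∈ K := evS_mem fun _ hw => evL_mem_gen _ hw

/-- The letters of the subgroup. -/
noncomputable def evK : ℕ → K := evSub (evS HN.H.ev sK) K hK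

theorem hXK : gen evK [[1], [2], [3], [4], [5], [6]] = ⊤ := gen_evSub hK (by
  rw [gen_evS]
  refine le_antisymm (gen_mono _ (by decide)) (gen_le fun w hw => ?_)
  rcases List.mem_cons.mp hw with rfl | hw
  · exact one_mem _
  · exact evL_mem_gen _ hw)

/-- The map onto the Higman–Sims group. -/
noncomputable def f : K →* HS := 
  (ψ.comp K.subtype).codRestrict HS fun g => map_K.le ⟨g.1, g.2, rfl⟩

theorem f_surj : Function.Surjective f := by
  rintro ⟨g, hg⟩
  rw [← map_K] at hg
  obtain ⟨k, hk, rfl⟩ := hg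
  exact ⟨⟨k, hk⟩, rfl⟩

theorem coeK (w : List ℕ) : (evL evK w).1 = evL HN.H.ev (subst sK w) := by
  rw [evK, coe_evL_evSub, evL_subst]

theorem z_ne : evL evK [1, 1] ≠ 1 := fun h =>
  HN.H.hφ.ne_one (w := subst sK [1, 1]) (p := 0) (by decide +kernel)
    ((coeK _).symm.trans (congrArg Subtype.val h))

theorem relsK {R : List (List ℕ)}
    (h : (R.map (subst sK)).all (fixB HN.H.img 8 HN.H.bs) = true) : Rels evK R :=
  Rels.evSub hK (HN.H.ora.rels_evS h)

theorem goodK : Good evK 1413984905396736 := Good.evSub hK (HN.H.ora.good_evS (by decide +kernel))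

theorem z_sq : evL evK [1, 1] * evL evK [1, 1] = 1 := by
  rw [← evL_append]
  exact relsK (R := [[1, 1, 1, 1]]) (by decide +kernel) _ List.mem_cons_self

theorem z_central : evL evK [1, 1] ∈ Subgroup.center K :=
  mem_center_of_rels goodK hXK (relsK (by decide +kernel))

theorem z_ker : Subgroup.zpowers (evL evK [1, 1]) ≤ f.ker := by
  rw [Subgroup.zpowers_le, MonoidHom.mem_ker]
  refine Subtype.ext ?_
  show ψ (evL evK [1, 1]).1 = 1
  rw [coeK, hψ]
  exact ora _ (by decide +kernel)

theorem cards : K.index = 2 ∧ f.ker = Subgroup.zpowers (evL evK [1, 1]) := by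
  have := HN.H.finite
  have h1 := Subgroup.card_mul_index K
  have h2 := Subgroup.card_mul_index f.ker
  rw [Subgroup.index_ker, MonoidHom.range_eq_top.mpr f_surj, Subgroup.card_top, gen_eq.2] at h2
  have h3 := Subgroup.card_le_of_le z_ker
  rw [card_zpowers_two z_ne z_sq] at h3
  have h4 : K.index ≠ 0 := Subgroup.index_ne_zero_of_finite
  have h5 : K.index ≠ 1 := fun h => K_ne (Subgroup.index_eq_one.mp h)
  rw [HN.H.card, ← h2] at h1
  have key : ∀ a b : ℕ, a * 44352000 * b = 177408000 → 2 ≤ a → b ≠ 0 → b ≠ 1 → b = 2 ∧ a ≤ 2 := by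
    intro a b e ha b0 b1
    have e2 : a * b = 4 := by
      rw [mul_right_comm] at e
      omega
    have hb : 2 ≤ b := by omega
    constructor <;> nlinarith
  obtain ⟨h8, h9⟩ := key _ _ h1 h3 h4 h5
  exact ⟨h8, (Subgroup.eq_of_le_of_card_ge z_ker ((card_zpowers_two z_ne z_sq).symm ▸ h9)).symm⟩

theorem nonsplit : IsNonsplitDoubleCover K HS := by
  have := normal_zpowers_of_central z_central
  exact nonsplit_of z_central z_ne z_sq
    ((QuotientGroup.quotientMulEquivOfEq cards.2.symm).trans
      (QuotientGroup.quotientKerEquivOfSurjective f f_surj)) center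
    (no_index_two hXK (relsK (R := [[1,2], [3,4], [5,6], [5,6,4,6,5,6,4,6,5,6,4,6,5,6,4,6,5,6,4,6], [3,5,2,1,3,3,5,2,1,3,3,5,2,1,3,3,5,2,1,3,3,5,2,1,3], [4,4,5,1,4,4,5,1,4,4,5,1,4,4,5,1,4,4,5,1,4,4,5,1,4,4,5,1]]) (by decide +kernel)) (C := [[0,4,5], [4,5], [0,1,3,4], [0,3,4], [0,4], [0,2,4]]) (by decide +kernel))

theorem nonsplit_congr {A B L : Type*} [Group A] [Group B] [Group L] (e : A ≃* B)
    (h : IsNonsplitDoubleCover A L) : IsNonsplitDoubleCover B L := by
  obtain ⟨h1, ⟨h2⟩, h3⟩ := h
  have hc : (Subgroup.center A).map (e : A →* B) = Subgroup.center B := by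
    ext b
    obtain ⟨a, rfl⟩ := e.surjective b
    rw [show e a = (e : A →* B) a from rfl, Subgroup.mem_map_iff_mem e.injective,
      Subgroup.mem_center_iff, Subgroup.mem_center_iff]
    refine ⟨fun h g => ?_, fun h g => e.injective ?_⟩
    · obtain ⟨g, rfl⟩ := e.surjective g
      exact (map_mul e g a).symm.trans ((congrArg e (h g)).trans (map_mul e a g))
    · rw [map_mul, map_mul]
      exact h (e g)
  have h4 : Nat.card (Subgroup.center B) = 2 := by
    rw [← hc, Subgroup.card_map_of_injective e.injective, h1]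
  refine ⟨h4, ⟨(QuotientGroup.congr _ _ e hc).symm.trans h2⟩, fun M hM => h3 (M.comap (e : A →* B)) ?_⟩
  refine Subgroup.isComplement'_of_disjoint_and_mul_eq_univ ?_ ?_
  · rw [Subgroup.disjoint_def]
    intro a ha hb
    exact e.injective ((Subgroup.disjoint_def.mp hM.disjoint (hc ▸ ⟨a, ha, rfl⟩) hb).trans
      (map_one e).symm)
  · rw [Set.eq_univ_iff_forall]
    intro a
    obtain ⟨⟨⟨c, hc'⟩, ⟨m, hm⟩⟩, e1⟩ := hM.2 (e a)
    obtain ⟨c', hc'', rfl⟩ := (hc.ge hc' :)
    obtain ⟨m, rfl⟩ := e.surjective m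
    exact ⟨c', hc'', m, hm, e.injective ((map_mul e c' m).trans e1)⟩

theorem main : ∃ M : Subgroup (gen HN.ev HN.Ws), M.Normal ∧ M.index = 2 ∧
    IsNonsplitDoubleCover M HS := by
  let e := (MonoidHom.ofInjective HN.θ_inj).trans (MulEquiv.subgroupCongr HN.range_eq)
  have h : (K.map (e : HN.H.Grp →* gen HN.ev HN.Ws)).index = 2 := by
    rw [Subgroup.index_map_equiv, cards.1]
  exact ⟨_, Subgroup.normal_of_index_eq_two h, h, nonsplit_congr (e.subgroupMap K) nonsplit⟩

end Cfsg.H6.HS
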