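import Cfsg.Agent.H6.Mat
import Cfsg.Prelude.Def_Classical

/-! Upper bounds for group orders by counting the possible images of base points. -/

set_option autoImplicit false

namespace Cfsg.H6

open Matrix

noncomputable def cnt (f : ℕ → Bool) (N : ℕ) : ℕ :=
  @Nat.rec (fun _ => ℕ) (nat_lit 0) (fun i acc => @Bool.rec (fun _ => ℕ) acc (Nat.succ acc) (f i)) N

theorem cnt_eq (f : ℕ → Bool) (N : ℕ) :
    cnt f N = ((Finset.range N).filter fun i => f i = true).card := by
  induction N with
  | zero => rfl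
  | succ N ih =>
    have : cnt f (N + 1) = @Bool.rec (fun _ => ℕ) (cnt f N) (Nat.succ (cnt f N)) (f N) := rfl
    rw [this, Finset.range_add_one, Finset.filter_insert]
    cases h : f N
    · simpa using ih
    · rw [if_pos rfl, Finset.card_insert_of_notMem (by simp), ← ih]

noncomputable def prodCnt (P : List ℕ → ℕ → ℕ → Bool) (N : ℕ) (todo : List ℕ) : List ℕ → ℕ :=
  @List.rec _ (fun _ => List ℕ → ℕ) (fun _ => nat_lit 1)
    (fun b _ ih done => Nat.mul (cnt (P done b) N) (ih (b :: done))) todo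

variable {G : Type*} [Group G] {Ω : Type*}

theorem card_fixS_cons (φ : G →* Equiv.Perm Ω) (b : Ω) (bs : List Ω) :
    Nat.card (fixS φ bs) = (orb φ (fixS φ bs) b).ncard * Nat.card (fixS φ (b :: bs)) := by
  have h2 := Subgroup.card_mul_index ((fixS φ [b]).subgroupOf (fixS φ bs))
  have h3 : Nat.card ((fixS φ [b]).subgroupOf (fixS φ bs)) = Nat.card (fixS φ (b :: bs)) := by
    rw [← Subgroup.inf_subgroupOf_right, Nat.card_congr
      (Subgroup.subgroupOfEquivOfLe inf_le_right).toEquiv, fixS_cons φ b bs]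
  rw [← h2, h3, ← relIndex_fixS, mul_comm]
  rfl

theorem card_le_of_chain (φ : G →* Equiv.Perm Ω) (dec : ℕ → Ω) (N : ℕ)
    (hsurj : ∀ v, ∃ p < N, dec p = v) (P : List ℕ → ℕ → ℕ → Bool)
    (hP : ∀ bs b p g, g ∈ fixS φ (bs.map dec) → (φ g)⁻¹ (dec b) = dec p → P bs b p = true)
    (todo : List ℕ) : ∀ done : List ℕ, Nat.card (fixS φ (done.map dec)) ≤
      prodCnt P N todo done * Nat.card (fixS φ ((todo.reverse ++ done).map dec)) := by
  induction todo with
  | nil => intro done; simp [prodCnt]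
  | cons b todo ih =>
    intro done
    have e : prodCnt P N (b :: todo) done = cnt (P done b) N * prodCnt P N todo (b :: done) := rfl
    rw [e, card_fixS_cons φ (dec b), List.reverse_cons, List.append_assoc, mul_assoc]
    refine Nat.mul_le_mul ?_ (ih (b :: done))
    rw [cnt_eq, ← Set.ncard_coe_finset]
    refine le_trans (Set.ncard_le_ncard (t := dec '' _) ?_ ((Finset.finite_toSet _).image _))
      (Set.ncard_image_le (Finset.finite_toSet _))
    rintro v ⟨g, hg, hv⟩
    obtain ⟨p, hp, rfl⟩ := hsurj v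
    exact ⟨p, by simpa using ⟨hp, hP done b p g hg hv⟩, rfl⟩

section Isom
variable {ι : Type} [Fintype ι] [DecidableEq ι] {F : Type*} [Field F]

/-- The action of a matrix group on column vectors. -/
def actV (μ : G →* Matrix ι ι F) : G →* Equiv.Perm (ι → F) where
  toFun g :=
    { toFun := fun v => μ g *ᵥ v
      invFun := fun v => μ g⁻¹ *ᵥ v
      left_inv := fun v => by beta_reduce; rw [mulVec_mulVec, ← map_mul, inv_mul_cancel, map_one, one_mulVec]
      right_inv := fun v => by beta_reduce; rw [mulVec_mulVec, ← map_mul, mul_inv_cancel, map_one, one_mulVec] }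
  map_one' := by ext v; simp
  map_mul' x y := by ext v; simp [mulVec_mulVec]

theorem fixS_actV_eq_bot {μ : G →* Matrix ι ι F} (hμ : Function.Injective μ) {bs : List (ι → F)}
    (h : ∀ i, Pi.single i 1 ∈ bs) : fixS (actV μ) bs = ⊥ := by
  rw [eq_bot_iff]
  intro g hg
  rw [Subgroup.mem_bot]
  apply hμ
  rw [map_one]
  ext i j
  have h1 : μ g *ᵥ Pi.single j 1 = Pi.single j 1 := hg _ (h j)
  have h2 := congrFun h1 i
  rw [mulVec_single_one] at h2
  rw [one_apply, ← Pi.single_apply j (1 : F) i, ← h2]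
  rfl

variable [DecidableEq F]

def isomP (Q : (ι → F) → F) (dec : ℕ → ι → F) (bs : List ℕ) (b p : ℕ) : Bool :=
  decide (Q (dec p) = Q (dec b)) && (bs.all fun c => decide (Q (dec p + dec c) = Q (dec b + dec c))) &&
    (decide (dec b = 0) || !decide (dec p = 0))

/-- The inclusion of an isometry group in the matrices. -/
def isomMat (Q : (ι → F) → F) : Cfsg.isometryGroup F Q →* Matrix ι ι F :=
  (Units.coeHom (Matrix ι ι F)).comp (Cfsg.isometryGroup F Q).subtype

omit [DecidableEq F] in
theorem isomMat_injective (Q : (ι → F) → F) : Function.Injective (isomMat Q) :=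
  Units.val_injective.comp Subtype.val_injective

theorem card_isom_le (Q : (ι → F) → F) (dec : ℕ → ι → F) (N : ℕ) (hsurj : ∀ v, ∃ p < N, dec p = v)
    (todo : List ℕ) (h : ∀ i, Pi.single i 1 ∈ (todo.reverse ++ []).map dec) :
    Nat.card (Cfsg.isometryGroup F Q) ≤ prodCnt (isomP Q dec) N todo [] := by
  have := card_le_of_chain (actV (isomMat Q)) dec N hsurj (isomP Q dec) ?_ todo []
  · rwa [fixS_actV_eq_bot (isomMat_injective Q) h, List.map_nil, fixS_nil, Subgroup.card_top,
      Subgroup.card_bot, mul_one] at this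
  · intro bs b p g hg hv
    have hq : ∀ u, Q (isomMat Q g *ᵥ u) = Q u := fun u => g.2 u u
    have hv' : isomMat Q g *ᵥ dec p = dec b := by
      rw [Equiv.Perm.inv_eq_iff_eq] at hv
      exact hv.symm
    unfold isomP
    simp only [Bool.and_eq_true, decide_eq_true_eq, List.all_eq_true, Bool.or_eq_true,
      Bool.not_eq_true', decide_eq_false_iff_not]
    refine ⟨⟨by rw [← hv', hq], fun c hc => ?_⟩, ?_⟩
    · have h1 : isomMat Q g *ᵥ dec c = dec c := hg _ (List.mem_map.mpr ⟨c, hc, rfl⟩)
      rw [← hq (dec p + dec c), mulVec_add, hv', h1]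
    · by_cases h0 : dec p = 0
      · left; rw [← hv', h0, mulVec_zero]
      · exact Or.inr h0

end Isom

/-- Decoding in base `q`. -/
def decQ (q : ℕ) {ι : Type*} {d : ℕ} (pos : ι ≃ Fin d) (p : ℕ) (i : ι) : ZMod q :=
  (p / q ^ (pos i : ℕ) : ℕ)

theorem decQ_surj (q : ℕ) [NeZero q] {ι : Type*} {d : ℕ} (pos : ι ≃ Fin d) (v : ι → ZMod q) :
    ∃ p < q ^ d, decQ q pos p = v := by
  let f : Fin d → Fin q := fun j => ⟨(v (pos.symm j)).val, ZMod.val_lt _⟩
  refine ⟨finFunctionFinEquiv f, (finFunctionFinEquiv f).2, ?_⟩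
  ext i
  have h := finFunctionFinEquiv_symm_apply_val (finFunctionFinEquiv f) (pos i)
  rw [Equiv.symm_apply_apply] at h
  unfold decQ
  rw [← ZMod.natCast_mod, ← h]
  simp [f]

end Cfsg.H6
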