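import Cfsg.Agent.H6.More2
import Cfsg.Agent.H6.F4

/-! Membership through an oracle; coded matrices over the field with four elements. -/

set_option autoImplicit false

namespace Cfsg.H6

variable {G : Type*} [Group G] {ev : ℕ → G}

/-- Each word of `T` is the inverse of the word of `W` at the same place. -/
theorem Oracle.mem_of_words {img : ℕ → ℕ → ℕ} {m : ℕ} {bs : List ℕ} (h : Oracle ev img m bs)
    {K : Subgroup G} {W T : List (List ℕ)} (hW : ∀ u ∈ W, evL ev u ∈ K)
    (hc : (decide (T.length ≤ W.length) &&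
      (T.zip W).all fun x => fixB img m bs (x.2 ++ x.1)) = true) : ∀ t ∈ T, evL ev t ∈ K := by
  simp only [Bool.and_eq_true, decide_eq_true_eq, List.all_eq_true] at hc
  intro t ht
  obtain ⟨i, hi, rfl⟩ := List.getElem_of_mem ht
  have h1 : (T[i], W[i]'(by omega)) ∈ T.zip W := by
    rw [← List.getElem_zip (h := by rw [List.length_zip]; omega)]
    exact List.getElem_mem _
  have h2 := h _ (hc.2 _ h1)
  rw [evL_append, mul_eq_one_iff_inv_eq] at h2
  rw [← h2]
  exact K.inv_mem (hW _ (List.getElem_mem _))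

variable {ι : Type*} [Fintype ι] [DecidableEq ι]

theorem mact4' {pos : ι → ℕ} {d m : ℕ} (h : ∀ i, pos i < d) {rw : ℕ → ℕ → ℕ}
    (h1 : ∀ k < 2 * d, ∃ i, (k = 2 * pos i ∧ dec4 pos (2 ^ k) = Pi.single i 1) ∨
      (k = 2 * pos i + 1 ∧ dec4 pos (2 ^ k) = Pi.single i (F4.mk 2)))
    (h2 : ∀ x < m, ∀ i j, dec4 pos (rw x (2 * pos i + 1)) j =
      F4.mk 2 * dec4 pos (rw x (2 * pos i)) j) :
    MAct (fun x => mat4 pos (rw x)) (dec4 pos) (fun x p => xv (rw x) p (2 * d)) m := by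
  refine mact4 h fun x _ hx k hk => ?_
  obtain ⟨i, ⟨e1, e2⟩ | ⟨e1, e2⟩⟩ := h1 k hk
  · rw [e2, Matrix.single_one_vecMul, e1]
    rfl
  · rw [e2, Matrix.single_vecMul, e1]
    ext j
    exact h2 x hx i j

end Cfsg.H6
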