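import Cfsg.Agent.H6.More3

/-! Matrices over a prime field packed in one number; the product works on all rows at once. -/

set_option autoImplicit false

namespace Cfsg.H6

open Finset

/-- The number with the given lanes of `b` bits. -/
def pk (b n : ℕ) (f : ℕ → ℕ) : ℕ := ∑ i ∈ range n, f i * 2 ^ (b * i)

theorem pk_succ (b n : ℕ) (f : ℕ → ℕ) : pk b (n + 1) f = 2 ^ (b * n) * f n + pk b n f := by
  unfold pk
  rw [sum_range_succ, add_comm, mul_comm]

theorem pk_congr {b n : ℕ} {f g : ℕ → ℕ} (h : ∀ i < n, f i = g i) : pk b n f = pk b n g :=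
  sum_congr rfl fun i hi => by rw [h i (mem_range.mp hi)]

theorem pk_lt {b n : ℕ} {f : ℕ → ℕ} (h : ∀ i < n, f i < 2 ^ b) : pk b n f < 2 ^ (b * n) := by
  induction n with
  | zero => simp [pk]
  | succ n ih =>
    have h1 := ih fun i hi => h i (by omega)
    have h2 := h n (by omega)
    rw [pk_succ, mul_add, mul_one, pow_add]
    nlinarith

theorem testBit_pk {b n : ℕ} (hb : 0 < b) {f : ℕ → ℕ} (h : ∀ i < n, f i < 2 ^ b) (v : ℕ) :
    (pk b n f).testBit v = (decide (v / b < n) && (f (v / b)).testBit (v % b)) := by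
  induction n with
  | zero => simp [pk]
  | succ n ih =>
    have h0 : ∀ i < n, f i < 2 ^ b := fun i hi => h i (by omega)
    rw [pk_succ, Nat.testBit_two_pow_mul_add _ (pk_lt h0), ih h0]
    have hv := Nat.div_add_mod v b
    have hm := Nat.mod_lt v hb
    by_cases h1 : v < b * n
    · have : v / b < n := (Nat.div_lt_iff_lt_mul hb).mpr (by rwa [mul_comm])
      rw [if_pos h1, decide_eq_true this, decide_eq_true (by omega : v / b < n + 1)]
    · rw [if_neg h1]
      have h2 : n ≤ v / b := (Nat.le_div_iff_mul_le hb).mpr (by rw [mul_comm]; omega)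
      by_cases h3 : v / b = n
      · rw [decide_eq_true (by omega : v / b < n + 1), Bool.true_and, h3]
        congr 1
        rw [h3] at hv
        omega
      · rw [decide_eq_false (by omega : ¬ v / b < n + 1), Bool.false_and]
        apply Nat.testBit_lt_two_pow
        refine lt_of_lt_of_le (h n (by omega)) (Nat.pow_le_pow_right (by norm_num) ?_)
        have : b * (n + 1) ≤ b * (v / b) := Nat.mul_le_mul_left _ (by omega)
        rw [mul_add, mul_one] at this
        omega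

theorem land_pk {b n t : ℕ} (hb : 0 < b) (ht : t ≤ b) (p s : ℕ) :
    (p >>> s) &&& pk b n (fun _ => 2 ^ t - 1) = pk b n fun i => (p >>> (b * i + s)) % 2 ^ t := by
  have h2 : 2 ^ t ≤ 2 ^ b := Nat.pow_le_pow_right (by norm_num) ht
  have h3 : 0 < 2 ^ t := by positivity
  apply Nat.eq_of_testBit_eq
  intro v
  rw [Nat.testBit_and, testBit_pk hb (fun _ _ => by omega),
    testBit_pk hb (fun _ _ => lt_of_lt_of_le (Nat.mod_lt _ h3) h2), Nat.testBit_two_pow_sub_one,
    Nat.testBit_mod_two_pow, Nat.testBit_shiftRight, Nat.testBit_shiftRight]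
  have hv := Nat.div_add_mod v b
  rw [show b * (v / b) + s + v % b = s + v by omega]
  cases p.testBit (s + v) <;> simp

theorem lane_pk {b n t s i : ℕ} (hb : 0 < b) {f : ℕ → ℕ} (h : ∀ i < n, f i < 2 ^ b)
    (ht : s + t ≤ b) (hi : i < n) : (pk b n f >>> (b * i + s)) % 2 ^ t = (f i >>> s) % 2 ^ t := by
  apply Nat.eq_of_testBit_eq
  intro v
  rw [Nat.testBit_mod_two_pow, Nat.testBit_mod_two_pow, Nat.testBit_shiftRight,
    Nat.testBit_shiftRight, testBit_pk hb h]
  by_cases hv : v < t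
  · have e1 : (b * i + s + v) / b = i := by
      rw [add_assoc, Nat.mul_add_div hb, Nat.div_eq_of_lt (by omega), add_zero]
    have e2 : (b * i + s + v) % b = s + v := by
      rw [add_assoc, Nat.mul_add_mod, Nat.mod_eq_of_lt (by omega)]
    rw [e1, e2, decide_eq_true hi, Bool.true_and]
  · simp [hv]

theorem pk_add (b n : ℕ) (f g : ℕ → ℕ) : pk b n f + pk b n g = pk b n fun i => f i + g i := by
  unfold pk
  rw [← sum_add_distrib]
  exact sum_congr rfl fun i _ => by ring

theorem pk_mul (b n c : ℕ) (f : ℕ → ℕ) : pk b n f * c = pk b n fun i => f i * c := by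
  unfold pk
  rw [sum_mul]
  exact sum_congr rfl fun i _ => by ring

theorem pk_sub {b n : ℕ} {f g : ℕ → ℕ} (h : ∀ i < n, g i ≤ f i) :
    pk b n f - pk b n g = pk b n fun i => f i - g i := by
  apply Nat.sub_eq_of_eq_add
  rw [pk_add]
  exact pk_congr fun i hi => by have := h i hi; omega

theorem pk_mul_pk {b d : ℕ} (r : ℕ) (hd : 0 < d) (x a : ℕ → ℕ) :
    pk (b * d) r x * pk b d a = pk b (r * d) fun v => x (v / d) * a (v % d) := by
  induction r with
  | zero => simp [pk]
  | succ r ih =>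
    rw [pk_succ, add_mul, ih, add_mul, one_mul]
    unfold pk
    rw [sum_range_add, add_comm, mul_sum]
    congr 1
    refine sum_congr rfl fun j hj => ?_
    have hj' := mem_range.mp hj
    beta_reduce
    rw [mul_comm r d, Nat.mul_add_div hd, Nat.div_eq_of_lt hj', Nat.mul_add_mod,
      Nat.mod_eq_of_lt hj', add_zero, mul_add, pow_add, mul_assoc b d r]
    ring

/-- The mask with `t` bits in each lane. -/
def msk (b n t : ℕ) : ℕ :=
  Nat.mul (Nat.div (Nat.sub (Nat.shiftLeft 1 (Nat.mul b n)) 1) (Nat.sub (Nat.shiftLeft 1 b) 1))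
    (Nat.sub (Nat.shiftLeft 1 t) 1)

theorem msk_eq {b : ℕ} (hb : 0 < b) (n t : ℕ) : msk b n t = pk b n fun _ => 2 ^ t - 1 := by
  have h : pk b n (fun _ => 1) = (2 ^ (b * n) - 1) / (2 ^ b - 1) := by
    unfold pk
    simp only [one_mul, pow_mul]
    exact Nat.geomSum_eq (Nat.one_lt_two_pow (by omega)) n
  have : msk b n t = (1 <<< (b * n) - 1) / (1 <<< b - 1) * (1 <<< t - 1) := rfl
  rw [this, Nat.one_shiftLeft, Nat.one_shiftLeft, Nat.one_shiftLeft, ← h, pk_mul]
  simp

/-- Moves `2 ^ J` lanes of `w` bits to lanes of `b` bits; it serves to store codes compactly. -/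
noncomputable def spread (w b J : ℕ) : ℕ → ℕ :=
  @Nat.rec (fun _ => ℕ → ℕ) (fun x => x)
    (fun j ih x => frc (fun M => frc ih (Nat.lor (Nat.land x M) (Nat.shiftLeft
        (Nat.land (Nat.shiftRight x (Nat.shiftLeft w j)) M) (Nat.shiftLeft b j))))
      (msk (Nat.shiftLeft b (Nat.succ j)) (Nat.shiftLeft 1 (Nat.sub (Nat.sub J 1) j))
        (Nat.shiftLeft w j))) J

/-- The parameters: prime, lane, digit bits, multiplier, shift, dimension. -/
structure Par where
  q : ℕ
  b : ℕ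
  t : ℕ
  c : ℕ
  s : ℕ
  d : ℕ

namespace Par

variable (P : Par)

noncomputable def ok : Bool :=
  Nat.blt 0 P.b && Nat.ble P.t P.b && Nat.ble P.s P.b && Nat.blt 0 P.q && Nat.ble P.q (2 ^ P.t) &&
    Nat.blt 0 P.d &&
    allR (fun x => Nat.blt (x * P.c) (2 ^ P.b) &&
      Nat.beq ((x * P.c) >>> P.s % 2 ^ (P.b - P.s)) (x / P.q)) 0 (P.d * (2 ^ P.t - 1) ^ 2 + 1)

noncomputable def acc (M1 M3 A p n : ℕ) : ℕ :=
  @Nat.rec (fun _ => ℕ) (nat_lit 0)
    (fun k a => Nat.add a (Nat.mul (Nat.land (Nat.shiftRight p (Nat.mul P.b k)) M1)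
      (Nat.land (Nat.shiftRight A (Nat.mul (Nat.mul P.b P.d) k)) M3))) n

def rdc (M2 X : ℕ) : ℕ :=
  Nat.sub X (Nat.mul (Nat.land (Nat.shiftRight (Nat.mul X P.c) P.s) M2) P.q)

/-- The packed product of `r` rows by a square matrix. -/
noncomputable def mul (r A p : ℕ) : ℕ :=
  @Nat.rec (fun _ => ℕ) (nat_lit 0)
    (fun y _ => P.rdc (msk P.b (Nat.mul r P.d) (Nat.sub P.b P.s)) (Nat.succ y))
    (P.acc (msk (Nat.mul P.b P.d) r P.t) (msk P.b P.d P.t) A p P.d)

def dgt (p i j : ℕ) : ℕ := (p >>> (P.b * P.d * i + P.b * j)) % 2 ^ P.t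

/-- The matrix of a code. -/
def dec (r p : ℕ) : Matrix (Fin r) (Fin P.d) (ZMod P.q) := fun i j => (P.dgt p i j : ℕ)

variable {P}

theorem acc_eq (hb : 0 < P.b) (ht : P.t ≤ P.b) (hd : 0 < P.d) (r A p n : ℕ) :
    P.acc (msk (P.b * P.d) r P.t) (msk P.b P.d P.t) A p n =
      pk P.b (r * P.d) fun v => ∑ k ∈ range n, P.dgt p (v / P.d) k * P.dgt A k (v % P.d) := by
  induction n with
  | zero => simp [acc, pk]
  | succ n ih =>
    have e : P.acc (msk (P.b * P.d) r P.t) (msk P.b P.d P.t) A p (n + 1) =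
      P.acc (msk (P.b * P.d) r P.t) (msk P.b P.d P.t) A p n +
        ((p >>> (P.b * n)) &&& msk (P.b * P.d) r P.t) *
          ((A >>> (P.b * P.d * n)) &&& msk P.b P.d P.t) := rfl
    rw [e, ih, msk_eq (by positivity), msk_eq hb,
      land_pk (by positivity) (ht.trans (Nat.le_mul_of_pos_right _ hd)), land_pk hb ht,
      pk_mul_pk r hd, pk_add]
    refine pk_congr fun v _ => ?_
    rw [sum_range_succ]
    unfold dgt
    rw [add_comm (P.b * (v % P.d))]

theorem mul_eq (h : P.ok = true) (r A p : ℕ) :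
    P.mul r A p = pk P.b (r * P.d) fun v =>
      (∑ k ∈ range P.d, P.dgt p (v / P.d) k * P.dgt A k (v % P.d)) % P.q := by
  unfold ok at h
  simp only [Bool.and_eq_true, Nat.blt_eq, Nat.ble_eq] at h
  obtain ⟨⟨⟨⟨⟨⟨hb, ht⟩, hs⟩, hq⟩, hqt⟩, hd⟩, hx⟩ := h
  have hx' := allR_range hx rfl
  have e : ∀ X, (@Nat.rec (fun _ => ℕ) (nat_lit 0)
      (fun y _ => P.rdc (msk P.b (Nat.mul r P.d) (Nat.sub P.b P.s)) (Nat.succ y)) X) =
      X - (((X * P.c) >>> P.s) &&& msk P.b (r * P.d) (P.b - P.s)) * P.q := by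
    intro X
    cases X with
    | zero => simp
    | succ y => rfl
  unfold mul
  rw [e]
  have e2 := acc_eq hb ht hd r A p P.d
  generalize hF : (fun v => ∑ k ∈ range P.d, P.dgt p (v / P.d) k * P.dgt A k (v % P.d)) = F at e2
  have hF' : ∀ v, F v * P.c < 2 ^ P.b ∧ (F v * P.c) >>> P.s % 2 ^ (P.b - P.s) = F v / P.q := by
    intro v
    have h1 : F v ≤ P.d * (2 ^ P.t - 1) ^ 2 := by
      rw [← hF]
      have h2 : ∀ a i j, P.dgt a i j ≤ 2 ^ P.t - 1 := fun a i j =>
        Nat.le_sub_one_of_lt (Nat.mod_lt _ (by positivity))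
      refine (sum_le_card_nsmul _ _ ((2 ^ P.t - 1) ^ 2) fun k _ => ?_).trans (by simp)
      rw [sq]
      exact Nat.mul_le_mul (h2 _ _ _) (h2 _ _ _)
    simpa using hx' (F v) (Nat.zero_le _) (by omega)
  have e3 : P.acc (msk (Nat.mul P.b P.d) r P.t) (msk P.b P.d P.t) A p P.d = pk P.b (r * P.d) F := e2
  rw [e3, pk_mul, msk_eq hb, land_pk hb (by omega), pk_mul, pk_sub]
  · refine pk_congr fun v hv => ?_
    rw [lane_pk hb (fun i _ => (hF' i).1) (by omega) hv, (hF' v).2, ← hF, Nat.mod_def, mul_comm]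
  · intro v hv
    rw [lane_pk hb (fun i _ => (hF' i).1) (by omega) hv, (hF' v).2]
    exact Nat.div_mul_le_self _ _

theorem sum_cast (r A p : ℕ) (i : Fin r) (j : Fin P.d) :
    ((∑ k ∈ range P.d, P.dgt p i k * P.dgt A k j : ℕ) : ZMod P.q) =
      (P.dec r p * P.dec P.d A) i j := by
  rw [Matrix.mul_apply, sum_range fun k => P.dgt p i k * P.dgt A k j]
  push_cast
  rfl

theorem dec_mul (h : P.ok = true) (r A p : ℕ) :
    P.dec r (P.mul r A p) = P.dec r p * P.dec P.d A := by
  ext i j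
  rw [← sum_cast, mul_eq h]
  unfold ok at h
  simp only [Bool.and_eq_true, Nat.blt_eq, Nat.ble_eq] at h
  obtain ⟨⟨⟨⟨⟨⟨hb, ht⟩, hs⟩, hq⟩, hqt⟩, hd⟩, hx⟩ := h
  have h1 : ∀ x, x % P.q < 2 ^ P.t := fun x => lt_of_lt_of_le (Nat.mod_lt _ hq) hqt
  have h2 : (i * P.d + j) / P.d = i := by
    rw [mul_comm, Nat.mul_add_div hd, Nat.div_eq_of_lt j.2, add_zero]
  have h3 : (i * P.d + j) % P.d = j := by
    rw [mul_comm, Nat.mul_add_mod, Nat.mod_eq_of_lt j.2]
  have h4 : (i : ℕ) * P.d + j < r * P.d := by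
    have := Nat.mul_le_mul_right P.d (show (i : ℕ) + 1 ≤ r from i.2)
    have := j.2
    nlinarith
  unfold dec
  conv_lhs => unfold dgt
  rw [show P.b * P.d * i + P.b * j = P.b * (i * P.d + j) + 0 by ring,
    lane_pk hb (fun _ _ => lt_of_lt_of_le (h1 _) (Nat.pow_le_pow_right (by norm_num) ht))
      (by omega) h4, Nat.shiftRight_zero, Nat.mod_eq_of_lt (h1 _), h2, h3, ZMod.natCast_mod]
  rfl

/-- The product depends on the matrix only. -/
theorem mul_congr (h : P.ok = true) {r A p p' : ℕ} (e : P.dec r p = P.dec r p') :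
    P.mul r A p = P.mul r A p' := by
  rw [mul_eq h, mul_eq h]
  unfold ok at h
  simp only [Bool.and_eq_true, Nat.blt_eq, Nat.ble_eq] at h
  obtain ⟨⟨⟨⟨⟨⟨hb, ht⟩, hs⟩, hq⟩, hqt⟩, hd⟩, hx⟩ := h
  refine pk_congr fun v hv => ?_
  have h1 : v / P.d < r := (Nat.div_lt_iff_lt_mul hd).mpr hv
  have h2 := sum_cast r A p ⟨_, h1⟩ ⟨_, Nat.mod_lt v hd⟩
  rw [e, ← sum_cast] at h2
  exact (ZMod.natCast_eq_natCast_iff' _ _ _).mp h2

/-- The code of the identity matrix. -/
def one (P : Par) : ℕ := msk (Nat.mul P.b (Nat.add P.d 1)) P.d 1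

theorem dec_one (h : P.ok = true) (ht1 : 0 < P.t) : P.dec P.d P.one = 1 := by
  unfold ok at h
  simp only [Bool.and_eq_true, Nat.blt_eq, Nat.ble_eq] at h
  obtain ⟨⟨⟨⟨⟨⟨hb, ht⟩, hs⟩, hq⟩, hqt⟩, hd⟩, hx⟩ := h
  ext i j
  have e : P.one = pk (P.b * (P.d + 1)) P.d fun _ => 2 ^ 1 - 1 := msk_eq (Nat.mul_pos hb (Nat.succ_pos _)) _ _
  have key : P.dgt P.one i j = if i = j then 1 else 0 := by
    unfold dgt
    apply Nat.eq_of_testBit_eq
    intro v
    have hB : 0 < P.b * (P.d + 1) := by positivity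
    rw [Nat.testBit_mod_two_pow, Nat.testBit_shiftRight, e,
      testBit_pk hB (f := fun _ => 2 ^ 1 - 1) (fun _ _ => Nat.one_lt_two_pow (by omega)),
      Nat.testBit_two_pow_sub_one]
    by_cases hij : i = j
    · rw [if_pos hij, ← hij, show P.b * P.d * i + P.b * i + v = P.b * (P.d + 1) * i + v by ring]
      by_cases hv : v < P.t
      · have : v < P.b * (P.d + 1) :=
          lt_of_lt_of_le (lt_of_lt_of_le hv ht) (Nat.le_mul_of_pos_right _ (Nat.succ_pos _))
        rw [Nat.mul_add_div hB, Nat.mul_add_mod, Nat.div_eq_of_lt this, Nat.mod_eq_of_lt this]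
        cases v with
        | zero => simp [ht1]
        | succ v => simp [Nat.testBit_succ]
      · cases v with
        | zero => omega
        | succ v => simp [hv, Nat.testBit_succ]
    · rw [if_neg hij, Nat.zero_testBit]
      by_cases hv : v < P.t
      · simp only [hv, decide_true, Bool.true_and, Bool.and_eq_false_imp, decide_eq_true_eq,
          decide_eq_false_iff_not, Nat.lt_one_iff]
        intro h1 h2
        obtain ⟨k, hk⟩ := Nat.dvd_of_mod_eq_zero h2
        rw [hk, Nat.mul_div_cancel_left _ hB] at h1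
        have h3 : v % P.b = 0 := by
          have := congrArg (· % P.b) hk
          simp only [mul_assoc, ← mul_add, Nat.mul_add_mod, Nat.mul_mod_right] at this
          exact this
        rw [Nat.mod_eq_of_lt (by omega)] at h3
        rw [h3, add_zero, mul_assoc, ← mul_add, mul_assoc] at hk
        have h4 := Nat.eq_of_mul_eq_mul_left hb hk
        have h5 : P.d * i + j = P.d * k + k := by rw [h4]; ring
        have h6 := congrArg (· % P.d) h5
        have h7 := congrArg (· / P.d) h5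
        simp only [Nat.mul_add_mod, Nat.mod_eq_of_lt j.2, Nat.mod_eq_of_lt h1] at h6
        simp only [Nat.mul_add_div hd, Nat.div_eq_of_lt j.2, Nat.div_eq_of_lt h1] at h7
        exact hij (Fin.ext (by omega))
      · simp [hv]
  unfold dec
  rw [key, Matrix.one_apply]
  split_ifs <;> simp

end Par

end Cfsg.H6
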